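import Cfsg.Agent.Char.LinearTwist
import Cfsg.Agent.Char.Linear
import Cfsg.Agent.Char.DegreesPrime
import Mathlib.GroupTheory.OrderOfElement

/-!
A group whose nonlinear irreducible degrees form an antichain for divisibility, with an automorphism
which is inner after a prime power `r` and fixes every nonlinear irreducible character: the derived
subgroup has an abelian complement, normalised by the automorphism, whose moved elements act on it
without fixed points.
-/

set_option autoImplicit false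
set_option linter.style.haveILetI false

namespace CfsgLib.Char.NoDivis

open scoped commutatorElement

universe u

variable {N : Type u} [Group N] [Fintype N]

/-- The hypotheses. -/
structure Data (N : Type u) [Group N] [Fintype N] where
  α : MulAut N
  r : ℕ
  hr : r.Prime
  n₀ : N
  hn₀ : α ^ r = MulAut.conj n₀
  anti : ∀ ψ ψ' : N → ℂ, Cfsg.IsIrrCharacter N ψ → Cfsg.IsIrrCharacter N ψ' → ∀ a b : ℕ,
    ψ 1 = a → ψ' 1 = b → a ≠ 1 → b ≠ 1 → a ∣ b → a = b
  fix : ∀ ψ : N → ℂ, Cfsg.IsIrrCharacter N ψ → ψ 1 ≠ 1 → ∀ x, ψ (α x) = ψ x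
  cop : ∀ ψ : N → ℂ, Cfsg.IsIrrCharacter N ψ → ∀ a : ℕ, ψ 1 = a → a ≠ 1 → ¬ r ∣ a
  solv : Group.IsSolvable N
  x : N
  hx : x⁻¹ * α x ∉ commutator N
  hxcop : (orderOf x).Coprime (Nat.card (commutator N))
  hxr : ¬ r ∣ orderOf x

theorem aut_mem_commutator (α : MulAut N) {h : N} (hh : h ∈ commutator N) : α h ∈ commutator N := by
  have h1 : (commutator N).map (α : N →* N) = commutator N := by
    rw [commutator_def, Subgroup.map_commutator, Subgroup.map_top_of_surjective _ α.surjective]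
  exact h1 ▸ Subgroup.mem_map_of_mem _ hh

theorem aut_symm_mem_commutator (α : MulAut N) {h : N} (hh : α h ∈ commutator N) : h ∈ commutator N := by
  simpa using aut_mem_commutator α.symm hh

theorem conj_mem_commutator (n a : N) : a⁻¹ * (n * a * n⁻¹) ∈ commutator N := by
  rw [show a⁻¹ * (n * a * n⁻¹) = ⁅a⁻¹, n⁆ by rw [commutatorElement_def]; group, commutator_def]
  exact Subgroup.commutator_mem_commutator (Subgroup.mem_top _) (Subgroup.mem_top _)

namespace Data

variable (D : Data N)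

/-- A nonlinear character vanishes on an element moved modulo the derived subgroup. -/
theorem moved_zero {a : N} (ha : a⁻¹ * D.α a ∉ commutator N) {ψ : N → ℂ}
    (hψ : Cfsg.IsIrrCharacter N ψ) (h1 : ψ 1 ≠ 1) : ψ a = 0 := by
  obtain ⟨lam, hlam⟩ := exists_hom_ne_one ha
  have hirr := IsIrrCharacter.mul_hom hψ lam
  have h := D.fix _ hirr (by simpa using h1) a
  change ψ (D.α a) * (lam (D.α a) : ℂ) = ψ a * (lam a : ℂ) at h
  rw [D.fix ψ hψ h1 a] at h
  rcases eq_or_ne (ψ a) 0 with h0 | h0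
  · exact h0
  · exfalso
    apply hlam
    rw [map_mul, map_inv, Units.ext (mul_left_cancel₀ h0 h), inv_mul_cancel]

/-- The class of a moved element is its whole coset of the derived subgroup. -/
theorem moved_conj {a : N} (ha : a⁻¹ * D.α a ∉ commutator N) {h : N} (hh : h ∈ commutator N) :
    ∃ n, n * a * n⁻¹ = a * h := by
  refine isConj_iff.1 ((isConj_iff_irr_eq a (a * h)).2 fun χ hχ => ?_)
  by_cases h1 : χ 1 = 1
  · obtain ⟨lam, rfl⟩ := IsCharacter.exists_hom (IsIrrCharacter.isCharacter hχ) h1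
    have : lam h = 1 := MonoidHom.mem_ker.1 (Abelianization.commutator_subset_ker lam hh)
    simp [this]
  · have h2 : (a * h)⁻¹ * D.α (a * h) ∉ commutator N := fun hm => by
      rw [map_mul, mul_inv_rev, mul_assoc, ← mul_assoc a⁻¹] at hm
      have h3 := (commutator N).mul_mem ((commutator N).mul_mem hh hm)
        ((commutator N).inv_mem (aut_mem_commutator D.α hh))
      exact ha (by simpa [mul_assoc] using h3)
    rw [D.moved_zero ha hχ h1, D.moved_zero h2 hχ h1]

/-- The centraliser of `x` meets the derived subgroup trivially. -/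
theorem cent_x {h : N} (hh : h ∈ commutator N) (hc : h * D.x = D.x * h) : h = 1 := by
  obtain ⟨n, hn⟩ := D.moved_conj D.hx hh
  have h1 : orderOf (D.x * h) = orderOf D.x := by
    rw [← hn, show n * D.x * n⁻¹ = MulAut.conj n D.x from rfl, MulEquiv.orderOf_eq]
  rw [Commute.orderOf_mul_eq_mul_orderOf_of_coprime hc.symm (D.hxcop.coprime_dvd_right
    (Subgroup.orderOf_mk (H := commutator N) h hh ▸ orderOf_dvd_natCard (⟨h, hh⟩ : commutator N)))] at h1
  have h2 : orderOf h = 1 := by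
    have := orderOf_pos D.x
    exact (mul_eq_left₀ this.ne').1 h1
  exact orderOf_eq_one_iff.1 h2

end Data

/-- The data, with an abelian complement of the derived subgroup normalised by the automorphism. -/
structure Std (N : Type u) [Group N] [Fintype N] extends Data N where
  A : Subgroup N
  xA : x ∈ A
  comm : ∀ a ∈ A, ∀ b ∈ A, a * b = b * a
  disj : ∀ a ∈ A, a ∈ commutator N → a = 1
  gen : ∀ n : N, ∃ h ∈ commutator N, ∃ a ∈ A, n = h * a
  αA : ∀ a ∈ A, α a ∈ A
  n₀A : n₀ ∈ A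
  fpf : ∀ a ∈ A, α a ≠ a → ∀ h ∈ commutator N, h * a = a * h → h = 1

theorem conj_mul_pow (α : MulAut N) (n : N) :
    ∀ k : ℕ, ∃ m, (MulAut.conj n * α) ^ k = MulAut.conj m * α ^ k
  | 0 => ⟨1, by simp⟩
  | k + 1 => by
    obtain ⟨m, hm⟩ := conj_mul_pow α n k
    refine ⟨m * (α ^ k) n, ?_⟩
    rw [pow_succ, hm, pow_succ, map_mul]
    ext y
    simp [mul_assoc, map_mul, map_inv]

theorem Data.exists_std (D : Data N) : Nonempty (Std N) := by
  obtain ⟨A, hA⟩ : ∃ A : Subgroup N, A = Subgroup.centralizer {D.x} := ⟨_, rfl⟩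
  have hmem : ∀ a, a ∈ A ↔ a * D.x = D.x * a := fun a => by
    rw [hA, Subgroup.mem_centralizer_singleton_iff]
  have hdisj : ∀ a ∈ A, a ∈ commutator N → a = 1 := fun a ha hN => D.cent_x hN ((hmem a).1 ha)
  have hcomm : ∀ a ∈ A, ∀ b ∈ A, a * b = b * a := fun a ha b hb => by
    have h1 := hdisj _ (A.mul_mem (A.mul_mem (A.mul_mem ha hb) (A.inv_mem ha)) (A.inv_mem hb))
      (by
        rw [← commutatorElement_def, commutator_def]
        exact Subgroup.commutator_mem_commutator (Subgroup.mem_top a) (Subgroup.mem_top b))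
    rw [mul_inv_eq_one, mul_inv_eq_iff_eq_mul] at h1
    exact h1
  haveI := Fintype.ofFinite (commutator N)
  have hgen : ∀ n : N, ∃ h ∈ commutator N, ∃ a ∈ A, n = h * a := by
    intro n
    let F : commutator N → commutator N := fun h =>
      ⟨D.x⁻¹ * ((h : N) * D.x * (h : N)⁻¹), conj_mem_commutator _ _⟩
    have hinj : Function.Injective F := fun h h' e => by
      have e' : (h : N) * D.x * (h : N)⁻¹ = h' * D.x * (h' : N)⁻¹ :=
        mul_left_cancel (congrArg Subtype.val e)
      have : ((h' : N)⁻¹ * h) * D.x = D.x * ((h' : N)⁻¹ * h) := by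
        calc ((h' : N)⁻¹ * h) * D.x = (h' : N)⁻¹ * ((h : N) * D.x * (h : N)⁻¹) * h := by group
          _ = (h' : N)⁻¹ * ((h' : N) * D.x * (h' : N)⁻¹) * h := by rw [e']
          _ = D.x * ((h' : N)⁻¹ * h) := by group
      exact Subtype.ext (inv_mul_eq_one.1 (D.cent_x (Subgroup.mul_mem _ (Subgroup.inv_mem _ h'.2) h.2) this)).symm
    obtain ⟨h, hh⟩ := (Finite.injective_iff_surjective.1 hinj) ⟨_, conj_mem_commutator n D.x⟩
    have e : (h : N) * D.x * (h : N)⁻¹ = n * D.x * n⁻¹ := mul_left_cancel (congrArg Subtype.val hh)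
    refine ⟨h, h.2, (h : N)⁻¹ * n, (hmem _).2 ?_, by group⟩
    calc (h : N)⁻¹ * n * D.x = (h : N)⁻¹ * (n * D.x * n⁻¹) * n := by group
      _ = (h : N)⁻¹ * ((h : N) * D.x * (h : N)⁻¹) * n := by rw [e]
      _ = D.x * ((h : N)⁻¹ * n) := by group
  have hfpf : ∀ a ∈ A, a⁻¹ * D.α a ∉ commutator N → ∀ h ∈ commutator N, h * a = a * h → h = 1 := by
    intro a ha hm h hh hc
    let F : commutator N → commutator N := fun h =>
      ⟨a⁻¹ * ((h : N) * a * (h : N)⁻¹), conj_mem_commutator _ _⟩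
    have hsurj : Function.Surjective F := fun u => by
      obtain ⟨n, hn⟩ := D.moved_conj hm u.2
      obtain ⟨k, hk, b, hb, rfl⟩ := hgen n
      refine ⟨⟨k, hk⟩, Subtype.ext ?_⟩
      show a⁻¹ * (k * a * k⁻¹) = u
      rw [show k * a * k⁻¹ = k * b * a * (k * b)⁻¹ by
        rw [mul_assoc k b a, hcomm b hb a ha]; group, hn]
      group
    have e : F ⟨h, hh⟩ = F 1 := Subtype.ext (by
      show a⁻¹ * (h * a * h⁻¹) = a⁻¹ * ((1 : N) * a * (1 : N)⁻¹)
      rw [hc]; group)
    exact congrArg Subtype.val ((Finite.injective_iff_surjective.2 hsurj) e)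
  -- move the image of `x` back into `A`
  obtain ⟨h, hh, a, ha, hha⟩ := hgen (D.α D.x)
  have hm1 : (D.α D.x)⁻¹ * D.α (D.α D.x) ∉ commutator N := fun hm => D.hx (by
    rw [← map_inv, ← map_mul] at hm
    exact aut_symm_mem_commutator D.α hm)
  obtain ⟨n, hn⟩ := D.moved_conj hm1 (h := (D.α D.x)⁻¹ * a) (by
    rw [hha, mul_inv_rev, mul_assoc]
    simpa [mul_assoc] using (Subgroup.Normal.conj_mem inferInstance _ ((commutator N).inv_mem hh) a⁻¹))
  rw [mul_inv_cancel_left] at hn
  obtain ⟨β, hβ⟩ : ∃ β, β = MulAut.conj n * D.α := ⟨_, rfl⟩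
  have hβ1 : ∀ y, β y = n * D.α y * n⁻¹ := fun y => by rw [hβ]; rfl
  have hβmod : ∀ y, y⁻¹ * β y ∈ commutator N ↔ y⁻¹ * D.α y ∈ commutator N := fun y => by
    rw [hβ1, show y⁻¹ * (n * D.α y * n⁻¹) = y⁻¹ * D.α y * ((D.α y)⁻¹ * (n * D.α y * n⁻¹)) by group,
      Subgroup.mul_mem_cancel_right _ (conj_mem_commutator _ _)]
  have hβx : β D.x = a := by rw [hβ1, hn]
  have hma : a⁻¹ * D.α a ∉ commutator N := fun hm => by
    rw [← hβmod, ← hβx, ← map_inv, ← map_mul] at hm
    exact D.hx ((hβmod _).1 (aut_symm_mem_commutator β hm))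
  have hβA : ∀ b ∈ A, β b ∈ A := fun b hb => by
    have hc : β b * a = a * β b := by rw [← hβx, ← map_mul, ← map_mul, (hmem b).1 hb]
    obtain ⟨k, hk, c, hc', e⟩ := hgen (β b)
    rw [e] at hc ⊢
    have : k = 1 := hfpf a ha hma k hk (mul_right_cancel (b := c) (by
      rw [mul_assoc, hcomm a ha c hc', ← mul_assoc, hc, mul_assoc]))
    rw [this, one_mul]; exact hc'
  obtain ⟨m, hm⟩ := conj_mul_pow D.α n D.r
  rw [← hβ, D.hn₀, ← map_mul] at hm
  have hpow : ∀ (k : ℕ), ∀ b ∈ A, (β ^ k) b ∈ A := by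
    intro k
    induction k with
    | zero => exact fun b hb => hb
    | succ k ih => intro b hb; rw [pow_succ, MulAut.mul_apply]; exact ih _ (hβA b hb)
  have hmA : m * D.n₀ ∈ A := by
    obtain ⟨k, hk, b, hb, e⟩ := hgen (m * D.n₀)
    have h1 : k * D.x * k⁻¹ ∈ A := by
      have := hpow D.r D.x ((hmem _).2 rfl)
      rw [hm, e, MulAut.conj_apply, mul_assoc k b, (hmem b).1 hb] at this
      simpa [mul_assoc] using this
    have h2 : D.x⁻¹ * (k * D.x * k⁻¹) = 1 :=
      hdisj _ (A.mul_mem (A.inv_mem ((hmem _).2 rfl)) h1) (conj_mem_commutator _ _)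
    rw [inv_mul_eq_one, eq_mul_inv_iff_mul_eq] at h2
    have : k = 1 := D.cent_x hk h2.symm
    rw [e, this, one_mul]; exact hb
  refine ⟨{
    α := β, r := D.r, hr := D.hr, n₀ := m * D.n₀, hn₀ := hm, anti := D.anti
    fix := fun ψ hψ h1 y => by
      rw [hβ1, IsClassFunction.apply_eq_of_isConj (IsIrrCharacter.isClassFunction hψ)
        (isConj_iff.2 ⟨n, rfl⟩).symm, D.fix ψ hψ h1]
    cop := D.cop, solv := D.solv, x := D.x
    hx := fun hc => D.hx ((hβmod _).1 hc)
    hxcop := D.hxcop, hxr := D.hxr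
    A := A, xA := (hmem _).2 rfl, comm := hcomm, disj := hdisj, gen := hgen, αA := hβA, n₀A := hmA
    fpf := fun b hb hne => hfpf b hb fun hc => hne ?_ }⟩
  exact (inv_mul_eq_one.1 (hdisj _ (A.mul_mem (A.inv_mem hb) (hβA b hb)) ((hβmod b).2 hc))).symm

end CfsgLib.Char.NoDivis
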