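import Mathlib.GroupTheory.Perm.Cycle.Type
import Mathlib.GroupTheory.GroupAction.Quotient
import Mathlib.RingTheory.Int.Basic
import Mathlib.Tactic.LinearCombination
import Mathlib.Tactic.Ring

/-!
Counting fixed points of a semilinear permutation of prime order on the orbits of a group whose point
stabilisers all coincide, and the `q`-adic comparison of two such counts.
-/

set_option autoImplicit false

namespace CfsgLib.Char.NoDivis

/-- Every orbit contains a fixed point, and the same number in each orbit. -/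
theorem count_fixed {A Ω : Type*} [Group A] [Finite A] [Finite Ω] (π : A →* Equiv.Perm Ω)
    (σ : Equiv.Perm Ω) (τ : A →* A) (hσ : ∀ a ω, σ (π a ω) = π (τ a) (σ ω)) (W : Subgroup A)
    (hW : ∀ a ω, π a ω = ω ↔ a ∈ W) (P : Subgroup A) (hP : ∀ a, a ∈ P ↔ a⁻¹ * τ a ∈ W)
    (r : ℕ) [Fact r.Prime] (hr : σ ^ r = 1) (hidx : ¬ r ∣ W.index)
    (horb : ∀ ω, ∃ a, σ ω = π a ω) :
    Nat.card A * Nat.card {ω // σ ω = ω} = Nat.card Ω * Nat.card P := by
  classical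
  haveI := Fintype.ofFinite Ω
  letI : MulAction A Ω := MulAction.compHom Ω π
  have hsmul : ∀ (a : A) (ω : Ω), a • ω = π a ω := fun _ _ => rfl
  have hmul : ∀ (a b : A) (ω : Ω), π a (π b ω) = π (a * b) ω := fun a b ω => by
    rw [map_mul, Equiv.Perm.mul_apply]
  have hfix : ∀ ω : Ω, ∃ b : A, σ (π b ω) = π b ω := by
    intro ω
    have hinv : ∀ x, σ x ∈ MulAction.orbit A ω ↔ x ∈ MulAction.orbit A ω := fun x => by
      obtain ⟨a, ha⟩ := horb x
      rw [ha, ← hsmul]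
      rw [← MulAction.orbit_eq_iff, MulAction.orbit_smul, MulAction.orbit_eq_iff]
    have hcard : ¬ r ∣ Fintype.card {x // x ∈ MulAction.orbit A ω} := by
      rw [← Nat.card_eq_fintype_card, Nat.card_coe_set_eq, ← MulAction.index_stabilizer]
      rwa [show MulAction.stabilizer A ω = W from Subgroup.ext fun a => hW a ω]
    obtain ⟨⟨x, hx⟩, he⟩ := Equiv.Perm.exists_fixed_point_of_prime (n := 1) hcard
      (σ := σ.subtypePerm hinv) (by
        rw [pow_one, Equiv.Perm.subtypePerm_pow]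
        exact Equiv.ext fun y => Subtype.ext (by simp [hr]))
    obtain ⟨b, rfl⟩ := hx
    exact ⟨b, congrArg Subtype.val he⟩
  let f : A × {ω // σ ω = ω} → Ω := fun p => π p.1 p.2.1
  have hfib : ∀ ω', Nat.card {p // f p = ω'} = Nat.card P := by
    intro ω'
    obtain ⟨b, hb⟩ := hfix ω'
    obtain ⟨ω₀, hω₀⟩ : ∃ x, π b ω' = x := ⟨_, rfl⟩
    rw [hω₀] at hb
    have hfixed : ∀ p : A, σ (π p ω₀) = π p ω₀ ↔ p ∈ P := fun p => by
      rw [hP, ← hW (p⁻¹ * τ p) ω₀, hσ, hb, map_mul, Equiv.Perm.mul_apply, map_inv,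
        Equiv.Perm.inv_eq_iff_eq]
    refine (Nat.card_eq_of_bijective (fun p : P => (⟨(b⁻¹ * (p : A)⁻¹, ⟨π p ω₀, (hfixed p).2 p.2⟩), ?_⟩ :
      {p // f p = ω'})) ⟨fun p p' e => ?_, ?_⟩).symm
    · show π (b⁻¹ * (p : A)⁻¹) (π p ω₀) = ω'
      rw [hmul, inv_mul_cancel_right, map_inv, Equiv.Perm.inv_eq_iff_eq, hω₀]
    · have := congrArg (fun z => z.1.1) e
      exact Subtype.ext (by simpa using this)
    · rintro ⟨⟨a, ω, hω⟩, ha⟩
      change π a ω = ω' at ha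
      have e : ω = π (b * a)⁻¹ ω₀ := by
        rw [map_inv, Equiv.Perm.eq_inv_iff_eq, ← hmul, ha, hω₀]
      refine ⟨⟨(b * a)⁻¹, (hfixed _).1 (by rw [← e]; exact hω)⟩, ?_⟩
      refine Subtype.ext (Prod.ext ?_ (Subtype.ext e.symm))
      show b⁻¹ * ((b * a)⁻¹)⁻¹ = a
      group
  haveI := Fintype.ofFinite A
  haveI := Fintype.ofFinite {ω // σ ω = ω}
  rw [← Nat.card_prod, ← Nat.card_congr (Equiv.sigmaFiberEquiv f), Nat.card_sigma,
    Finset.sum_congr rfl fun ω' _ => hfib ω', Finset.sum_const, Finset.card_univ, smul_eq_mul,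
    ← Nat.card_eq_fintype_card]

/-- The exponent is determined by the quotient. -/
theorem exp_unique {q E k n j m : ℕ} (hq : 1 < q) (hE : 1 < E) (hn : 0 < n) (hm : 0 < m)
    (h1 : (E : ℤ) * ((q : ℤ) ^ k - 1) = (q : ℤ) ^ n - 1)
    (h2 : (E : ℤ) * ((q : ℤ) ^ j - 1) = (q : ℤ) ^ m - 1) : n = m := by
  have hqz : (1 : ℤ) < q := by exact_mod_cast hq
  have pos : ∀ {k n : ℕ}, 0 < n → (E : ℤ) * ((q : ℤ) ^ k - 1) = (q : ℤ) ^ n - 1 → 0 < k ∧ k < n := by
    intro k n hn h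
    have h1 : (1 : ℤ) < (q : ℤ) ^ n := one_lt_pow₀ hqz hn.ne'
    refine ⟨Nat.pos_of_ne_zero fun e => by subst e; simp at h; omega, ?_⟩
    by_contra hle
    have h2 : (q : ℤ) ^ n ≤ (q : ℤ) ^ k := pow_le_pow_right₀ hqz.le (not_lt.1 hle)
    have h3 : 2 * ((q : ℤ) ^ k - 1) ≤ (E : ℤ) * ((q : ℤ) ^ k - 1) :=
      mul_le_mul_of_nonneg_right (by exact_mod_cast hE) (by omega)
    omega
  have key : ∀ {k n j m : ℕ}, k < j → 0 < n → 0 < m → (E : ℤ) * ((q : ℤ) ^ k - 1) = (q : ℤ) ^ n - 1 →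
      (E : ℤ) * ((q : ℤ) ^ j - 1) = (q : ℤ) ^ m - 1 → False := by
    intro k n j m hkj hn hm h1 h2
    obtain ⟨hk, hkn⟩ := pos hn h1
    obtain ⟨hj, hjm⟩ := pos hm h2
    obtain ⟨d, rfl⟩ := Nat.exists_eq_add_of_lt hkj
    obtain ⟨e, rfl⟩ := Nat.exists_eq_add_of_lt hkn
    obtain ⟨c, rfl⟩ := Nat.exists_eq_add_of_lt hjm
    have h3 : (q : ℤ) ^ k * ((E : ℤ) - q ^ (e + 1)) =
        (q : ℤ) ^ k * ((q : ℤ) ^ (d + 1) * ((E : ℤ) - q ^ (c + 1))) := by
      linear_combination h1 - h2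
    have h4 := mul_left_cancel₀ (pow_ne_zero k (by omega)) h3
    have h5 : (q : ℤ) ∣ E :=
      ⟨(q : ℤ) ^ d * ((E : ℤ) - q ^ (c + 1)) + (q : ℤ) ^ e, by linear_combination h4⟩
    have h6 : (q : ℤ) ∣ (E : ℤ) - 1 := by
      refine dvd_trans (dvd_pow_self _ hk.ne') ⟨(E : ℤ) - q ^ (e + 1), ?_⟩
      linear_combination -h1
    have h7 : (q : ℤ) ∣ 1 := by simpa using dvd_sub h5 h6
    have := Int.le_of_dvd one_pos h7
    omega
  obtain ⟨hk, -⟩ := pos hn h1
  rcases Nat.lt_trichotomy k j with h | rfl | h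
  · exact (key h hn hm h1 h2).elim
  · have : (q : ℤ) ^ n = (q : ℤ) ^ m := by omega
    exact Nat.pow_right_injective hq (by exact_mod_cast this)
  · exact (key h hm hn h2 h1).elim

end CfsgLib.Char.NoDivis
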