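import Cfsg.Agent.Char.NoDivis.Derived
import Cfsg.Agent.Char.NoDivis.Count
import Cfsg.Agent.Char.NormalSub
import Cfsg.Agent.Frobenius.Fpf
import Mathlib.GroupTheory.PGroup

/-!
The derived subgroup is abelian: a minimal invariant section `U` of its second derived subgroup would be
a `q`-group, central and smaller than the abelianisation, and the fixed points of an automorphism of
prime order would count both by the same quotient of `q`-powers.
-/

set_option autoImplicit false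
set_option linter.style.haveILetI false
set_option linter.unusedSectionVars false

namespace CfsgLib.Char.NoDivis

open scoped commutatorElement

universe u

theorem commutator_lt_of_solvable {X : Type u} [Group X] [Group.IsSolvable X] {K : Subgroup X}
    (hK : K ≠ ⊥) : ⁅K, K⁆ < K := by
  haveI : Nontrivial K := (Subgroup.nontrivial_iff_ne_bot _).2 hK
  have hle : ⁅K, K⁆ ≤ K := Subgroup.commutator_le.2 fun a ha b hb => by
    rw [commutatorElement_def]; exact K.mul_mem (K.mul_mem (K.mul_mem ha hb) (K.inv_mem ha)) (K.inv_mem hb)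
  refine lt_of_le_of_ne hle fun e => ?_
  have h2 : commutator K < ⊤ := Group.IsSolvable.commutator_lt_top_of_nontrivial _
  refine h2.ne (eq_top_iff.2 fun h _ => ?_)
  have hh : (h : X) ∈ (commutator K).map K.subtype := by
    rw [Subgroup.map_subtype_commutator, e]; exact h.2
  obtain ⟨y, hy, e'⟩ := hh
  exact (Subtype.ext e' : y = h) ▸ hy

variable {N : Type u} [Group N] [Fintype N]

namespace Std

variable (D : Std N)

/-- A maximal invariant normal subgroup of `N` below the second derived subgroup. -/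
structure Below (D : Std N) where
  L : Subgroup N
  normal : L.Normal
  lt : L < ⁅commutator N, commutator N⁆
  inv : ∀ u ∈ L, D.α u ∈ L
  max : ∀ M : Subgroup N, M.Normal → L ≤ M → M ≤ ⁅commutator N, commutator N⁆ →
    (∀ u ∈ M, D.α u ∈ M) → M = L ∨ M = ⁅commutator N, commutator N⁆

theorem exists_below (h : ⁅commutator N, commutator N⁆ ≠ ⊥) : Nonempty D.Below := by
  obtain ⟨L, ⟨h1, h2, h3⟩, hmax⟩ := Set.Finite.exists_maximal
    (s := {L : Subgroup N | L.Normal ∧ L < ⁅commutator N, commutator N⁆ ∧ ∀ u ∈ L, D.α u ∈ L})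
    (Set.toFinite _) ⟨⊥, inferInstance, bot_lt_iff_ne_bot.2 h, fun u hu => by
      rw [Subgroup.mem_bot] at hu ⊢; rw [hu, map_one]⟩
  refine ⟨⟨L, h1, h2, h3, fun M hM hle hMle hinv => ?_⟩⟩
  by_cases e : M = ⁅commutator N, commutator N⁆
  · exact Or.inr e
  · exact Or.inl (le_antisymm (hmax ⟨hM, lt_of_le_of_ne hMle e, hinv⟩ hle) hle)

/-- The second derived subgroup is invariant. -/
theorem aut_mem_derived (φ : MulAut N) {u : N} (hu : u ∈ ⁅commutator N, commutator N⁆) :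
    φ u ∈ ⁅commutator N, commutator N⁆ := by
  have h1 : (commutator N).map (φ : N →* N) = commutator N := by
    rw [commutator_def, Subgroup.map_commutator, Subgroup.map_top_of_surjective _ φ.surjective]
  have h2 : ⁅commutator N, commutator N⁆.map (φ : N →* N) = ⁅commutator N, commutator N⁆ := by
    rw [Subgroup.map_commutator, h1]
  exact h2 ▸ Subgroup.mem_map_of_mem _ hu

variable {D}

theorem Below.symm_mem (B : D.Below) {u : N} (hu : u ∈ B.L) : D.α.symm u ∈ B.L := by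
  classical
  have hinj : Function.Injective (fun x : B.L => (⟨D.α x, B.inv x x.2⟩ : B.L)) := fun a b e =>
    Subtype.ext (D.α.injective (congrArg Subtype.val e))
  obtain ⟨⟨v, hv⟩, e⟩ := (Finite.injective_iff_surjective.1 hinj) ⟨u, hu⟩
  rw [← show D.α v = u from congrArg Subtype.val e, MulEquiv.symm_apply_apply]
  exact hv

theorem Below.le_commutator (B : D.Below) : B.L ≤ commutator N :=
  B.lt.le.trans (Subgroup.commutator_le_left _ _)

/-- The section is an abelian `q`-group. -/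
theorem Below.exists_prime (B : D.Below) : ∃ q : ℕ, q.Prime ∧
    (∀ u ∈ ⁅commutator N, commutator N⁆, ∃ i : ℕ, u ^ q ^ i ∈ B.L) ∧
    ∀ u ∈ ⁅commutator N, commutator N⁆, ∀ v ∈ ⁅commutator N, commutator N⁆, ⁅u, v⁆ ∈ B.L := by
  classical
  haveI := B.normal
  haveI := D.solv
  set π := QuotientGroup.mk' B.L
  have hπ : ∀ x, π x = 1 ↔ x ∈ B.L := fun x => QuotientGroup.eq_one_iff x
  haveI : Group.IsSolvable (N ⧸ B.L) :=
    Group.isSolvable_of_surjective (QuotientGroup.mk'_surjective B.L)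
  obtain ⟨U, hU⟩ : ∃ U, ⁅commutator N, commutator N⁆.map π = U := ⟨_, rfl⟩
  have hmemU : ∀ x, π x ∈ U → x ∈ ⁅commutator N, commutator N⁆ := by
    intro x hx
    rw [← hU] at hx
    obtain ⟨y, hy, e⟩ := hx
    have : y⁻¹ * x ∈ B.L := by rw [← hπ, map_mul, map_inv, e, inv_mul_cancel]
    simpa using Subgroup.mul_mem _ hy (B.lt.le this)
  have hU1 : U ≠ ⊥ := fun e => B.lt.not_ge fun x hx => by
    rw [← hπ, ← Subgroup.mem_bot, ← e, ← hU]; exact Subgroup.mem_map_of_mem π hx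
  have hab : ∀ u ∈ ⁅commutator N, commutator N⁆, ∀ v ∈ ⁅commutator N, commutator N⁆, ⁅u, v⁆ ∈ B.L := by
    let M := B.L ⊔ ⁅⁅commutator N, commutator N⁆, ⁅commutator N, commutator N⁆⁆
    have hd : ∀ y, y ∈ ⁅⁅commutator N, commutator N⁆, ⁅commutator N, commutator N⁆⁆ →
        D.α y ∈ ⁅⁅commutator N, commutator N⁆, ⁅commutator N, commutator N⁆⁆ := by
      intro y hy
      have h2 : ⁅commutator N, commutator N⁆.map (D.α : N →* N) ≤ ⁅commutator N, commutator N⁆ :=
        Subgroup.map_le_iff_le_comap.2 fun x hx => aut_mem_derived D.α hx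
      have h3 := Subgroup.mem_map_of_mem (D.α : N →* N) hy
      rw [Subgroup.map_commutator] at h3
      exact Subgroup.commutator_mono h2 h2 h3
    rcases B.max M inferInstance le_sup_left (sup_le B.lt.le (Subgroup.commutator_le_left _ _)) (fun u hu => by
      obtain ⟨a, ha, b, hb, rfl⟩ := Subgroup.mem_sup_of_normal_left.1 hu
      rw [map_mul]; exact Subgroup.mul_mem_sup (B.inv a ha) (hd b hb)) with e | e
    · intro u hu v hv
      have h1 : ⁅u, v⁆ ∈ M := Subgroup.mem_sup_right (Subgroup.commutator_mem_commutator hu hv)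
      exact e.le h1
    · exfalso
      refine (commutator_lt_of_solvable hU1).ne ?_
      have h1 : M.map π = U := by rw [e, hU]
      rwa [Subgroup.map_sup, (Subgroup.map_eq_bot_iff _).2 (by rw [QuotientGroup.ker_mk']), bot_sup_eq,
        Subgroup.map_commutator, hU] at h1
  obtain ⟨q, hq, hqd⟩ : ∃ q, q.Prime ∧ q ∣ Nat.card U :=
    Nat.exists_prime_and_dvd fun e => hU1 (Subgroup.eq_bot_of_card_eq U e)
  haveI := Fact.mk hq
  let K : Subgroup N :=
    { carrier := {u | u ∈ ⁅commutator N, commutator N⁆ ∧ ∃ i : ℕ, u ^ q ^ i ∈ B.L}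
      one_mem' := ⟨Subgroup.one_mem _, 0, by simp⟩
      mul_mem' := fun {a b} ha hb => by
        obtain ⟨ha, i, hi⟩ := ha
        obtain ⟨hb, j, hj⟩ := hb
        refine ⟨Subgroup.mul_mem _ ha hb, i + j, ?_⟩
        have hc : Commute (π a) (π b) :=
          commutatorElement_eq_one_iff_commute.1 (by rw [← map_commutatorElement, hπ]; exact hab a ha b hb)
        rw [← hπ, map_pow, map_mul, hc.mul_pow, pow_add, pow_mul, mul_comm (q ^ i) (q ^ j),
          pow_mul (π b), ← map_pow, ← map_pow π b, (hπ _).2 hi, (hπ _).2 hj, one_pow, one_pow, one_mul]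
      inv_mem' := fun {a} ha => by
        obtain ⟨ha, i, hi⟩ := ha
        exact ⟨Subgroup.inv_mem _ ha, i, by rw [inv_pow]; exact Subgroup.inv_mem _ hi⟩ }
  haveI : K.Normal := ⟨fun u ⟨hu, i, hi⟩ g => ⟨Subgroup.Normal.conj_mem inferInstance u hu g, i, by
    rw [conj_pow]; exact B.normal.conj_mem _ hi g⟩⟩
  rcases B.max K inferInstance (fun u hu => ⟨B.lt.le hu, 0, by simpa using hu⟩) (fun u hu => hu.1)
    (fun u ⟨hu, i, hi⟩ => ⟨aut_mem_derived D.α hu, i, by rw [← map_pow]; exact B.inv _ hi⟩) with e | e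
  · exfalso
    obtain ⟨y, hy⟩ := exists_prime_orderOf_dvd_card' q hqd
    obtain ⟨x, hx⟩ := QuotientGroup.mk'_surjective B.L (y : N ⧸ B.L)
    have hxD := hmemU x (by rw [show π x = y from hx]; exact y.2)
    have : x ∈ K := ⟨hxD, 1, by
      rw [← hπ, map_pow, show π x = y from hx, pow_one, ← hy, ← Subgroup.orderOf_coe, pow_orderOf_eq_one]⟩
    rw [e, ← hπ, show π x = y from hx] at this
    rw [← Subgroup.orderOf_coe, this, orderOf_one] at hy
    exact hq.ne_one hy.symm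
  · exact ⟨q, hq, fun u hu => (e.symm ▸ hu : u ∈ K).2, hab⟩

/-- The derived subgroup maps onto a `q`-group modulo the section's bottom. -/
theorem Below.qgroup (B : D.Below) {q : ℕ} (hq : q.Prime)
    (hU : ∀ u ∈ ⁅commutator N, commutator N⁆, ∃ i : ℕ, u ^ q ^ i ∈ B.L) :
    ∃ n : ℕ, B.L.relIndex (commutator N) = q ^ n := by
  classical
  haveI := B.normal
  by_contra hno
  set π := QuotientGroup.mk' B.L with hπdef
  have hπ : ∀ x, π x = 1 ↔ x ∈ B.L := fun x => QuotientGroup.eq_one_iff x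
  obtain ⟨H₁, hH₁⟩ : ∃ H₁, (commutator N).map π = H₁ := ⟨_, rfl⟩
  obtain ⟨U, hUdef⟩ : ∃ U, ⁅commutator N, commutator N⁆.map π = U := ⟨_, rfl⟩
  haveI : U.Normal := hUdef ▸ Subgroup.Normal.map inferInstance π (QuotientGroup.mk'_surjective B.L)
  have hcard : Nat.card H₁ = B.L.relIndex (commutator N) := by
    rw [← hH₁, ← Subgroup.relIndex_ker, QuotientGroup.ker_mk']
  obtain ⟨v, hv, hvd, hvq⟩ : ∃ v, v.Prime ∧ v ∣ Nat.card H₁ ∧ v ≠ q := by
    by_contra hall
    push Not at hall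
    exact hno ⟨_, hcard ▸ Nat.eq_prime_pow_of_unique_prime_dvd Nat.card_pos.ne' fun {d} hd hdd => hall d hd hdd⟩
  haveI := Fact.mk hv
  have hUle : U ≤ H₁ := hUdef ▸ hH₁ ▸ Subgroup.map_mono (Subgroup.commutator_le_left _ _)
  have hmemU : ∀ x, π x ∈ U → x ∈ ⁅commutator N, commutator N⁆ := by
    intro x hx
    rw [← hUdef] at hx
    obtain ⟨y, hy, e⟩ := hx
    have : y⁻¹ * x ∈ B.L := by rw [← hπ, map_mul, map_inv, e, inv_mul_cancel]
    simpa using Subgroup.mul_mem _ hy (B.lt.le this)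
  have hqU : ∀ u ∈ U, ∃ i : ℕ, u ^ q ^ i = 1 := fun u hu => by
    obtain ⟨x, hx, rfl⟩ := (hUdef.symm ▸ hu : u ∈ ⁅commutator N, commutator N⁆.map π)
    obtain ⟨i, hi⟩ := hU x hx
    exact ⟨i, by rw [← map_pow, hπ]; exact hi⟩
  have hcam : ∀ h ∈ H₁, h ∉ U → ∀ u ∈ U, ∃ k ∈ H₁, k * h * k⁻¹ = h * u := by
    intro h hh hhU u hu
    obtain ⟨h, hh', rfl⟩ := (hH₁.symm ▸ hh : h ∈ (commutator N).map π)
    obtain ⟨u, hu', rfl⟩ := (hUdef.symm ▸ hu : u ∈ ⁅commutator N, commutator N⁆.map π)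
    obtain ⟨k, hk, hk'⟩ := D.camina hh' (fun e => hhU (hUdef ▸ Subgroup.mem_map_of_mem π e)) hu'
    exact ⟨π k, hH₁ ▸ Subgroup.mem_map_of_mem π hk, by rw [← map_mul, ← map_inv, ← map_mul, hk', map_mul]⟩
  obtain ⟨⟨y, hyH⟩, hyv⟩ := exists_prime_orderOf_dvd_card' v hvd
  rw [← Subgroup.orderOf_coe] at hyv
  change orderOf y = v at hyv
  have hcop : ∀ u ∈ U, u ^ v = 1 → u = 1 := fun u hu huv => by
    obtain ⟨i, hi⟩ := hqU u hu
    exact orderOf_eq_one_iff.1 (Nat.eq_one_of_dvd_coprimes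
      ((Nat.coprime_primes hv hq).2 hvq |>.pow_right i) (orderOf_dvd_of_pow_eq_one huv)
      (orderOf_dvd_of_pow_eq_one hi))
  have hyU : y ∉ U := fun e => by
    have := hcop y e (hyv ▸ pow_orderOf_eq_one y)
    rw [this, orderOf_one] at hyv
    exact hv.ne_one hyv.symm
  have hfixy : ∀ u ∈ U, u * y = y * u → u = 1 := by
    intro u hu hc
    obtain ⟨k, -, hk⟩ := hcam y hyH hyU u hu
    refine hcop u hu ?_
    have h1 : (k * y * k⁻¹) ^ v = 1 := by rw [conj_pow, ← hyv, pow_orderOf_eq_one]; simp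
    rw [hk, (show Commute y u from hc.symm).mul_pow, ← hyv, pow_orderOf_eq_one, one_mul] at h1
    rw [← hyv]; exact h1
  obtain ⟨X, hX⟩ : ∃ X : Subgroup (N ⧸ B.L), H₁ ⊓ Subgroup.centralizer {y} = X := ⟨_, rfl⟩
  have hmemX : ∀ x, x ∈ X ↔ x ∈ H₁ ∧ x * y = y * x := fun x => by
    rw [← hX, Subgroup.mem_inf, Subgroup.mem_centralizer_singleton_iff]
  have hcomU : ∀ a ∈ H₁, ∀ b ∈ H₁, ⁅a, b⁆ ∈ U := by
    intro a ha b hb
    obtain ⟨a, ha', rfl⟩ := (hH₁.symm ▸ ha : a ∈ (commutator N).map π)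
    obtain ⟨b, hb', rfl⟩ := (hH₁.symm ▸ hb : b ∈ (commutator N).map π)
    rw [← map_commutatorElement, ← hUdef]
    exact Subgroup.mem_map_of_mem π (Subgroup.commutator_mem_commutator ha' hb')
  have hdec : ∀ k ∈ H₁, ∃ u ∈ U, ∃ x ∈ X, k = u * x := by
    intro k hk
    let F : U → U := fun u => ⟨⁅(u : N ⧸ B.L), y⁆, hcomU _ (hUle u.2) y hyH⟩
    have hinj : Function.Injective F := fun a b e => by
      have e' : ⁅(a : N ⧸ B.L), y⁆ = ⁅(b : N ⧸ B.L), y⁆ := congrArg Subtype.val e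
      simp only [commutatorElement_def, mul_left_inj] at e'
      have : ((b : N ⧸ B.L)⁻¹ * a) * y = y * ((b : N ⧸ B.L)⁻¹ * a) := by
        calc ((b : N ⧸ B.L)⁻¹ * a) * y = (b : N ⧸ B.L)⁻¹ * ((a : N ⧸ B.L) * y * (a : N ⧸ B.L)⁻¹) * a := by group
          _ = (b : N ⧸ B.L)⁻¹ * ((b : N ⧸ B.L) * y * (b : N ⧸ B.L)⁻¹) * a := by rw [e']
          _ = y * ((b : N ⧸ B.L)⁻¹ * a) := by group
      exact Subtype.ext (inv_mul_eq_one.1 (hfixy _ (U.mul_mem (U.inv_mem b.2) a.2) this)).symm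
    obtain ⟨u, hu⟩ := (Finite.injective_iff_surjective.1 hinj) ⟨_, hcomU k hk y hyH⟩
    have e' : ⁅(u : N ⧸ B.L), y⁆ = ⁅k, y⁆ := congrArg Subtype.val hu
    simp only [commutatorElement_def, mul_left_inj] at e'
    refine ⟨u, u.2, (u : N ⧸ B.L)⁻¹ * k, (hmemX _).2 ⟨H₁.mul_mem (H₁.inv_mem (hUle u.2)) hk, ?_⟩, by group⟩
    calc (u : N ⧸ B.L)⁻¹ * k * y = (u : N ⧸ B.L)⁻¹ * (k * y * k⁻¹) * k := by group
      _ = (u : N ⧸ B.L)⁻¹ * ((u : N ⧸ B.L) * y * (u : N ⧸ B.L)⁻¹) * k := by rw [e']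
      _ = y * ((u : N ⧸ B.L)⁻¹ * k) := by group
  have hXU : ∀ x ∈ X, x ∈ U → x = 1 := fun x hx hxU => hfixy x hxU ((hmemX x).1 hx).2
  have hXcomm : ∀ a ∈ X, ∀ b ∈ X, a * b = b * a := fun a ha b hb =>
    commutatorElement_eq_one_iff_mul_comm.1 (hXU _
      (by rw [commutatorElement_def]; exact X.mul_mem (X.mul_mem (X.mul_mem ha hb) (X.inv_mem ha)) (X.inv_mem hb))
      (hcomU a ((hmemX a).1 ha).1 b ((hmemX b).1 hb).1))
  have hfixX : ∀ x ∈ X, x ≠ 1 → ∀ u ∈ U, u * x = x * u → u = 1 := by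
    intro x hx hx1 u hu hc
    let F : U → U := fun u => ⟨⁅(u : N ⧸ B.L), x⁆, hcomU _ (hUle u.2) x ((hmemX x).1 hx).1⟩
    have hsurj : Function.Surjective F := fun w => by
      obtain ⟨k, hk, hk'⟩ := hcam x ((hmemX x).1 hx).1 (fun e => hx1 (hXU x hx e)) (x⁻¹ * w * x)
        (Subgroup.Normal.conj_mem' inferInstance _ w.2 x)
      obtain ⟨a, ha, b, hb, rfl⟩ := hdec k hk
      refine ⟨⟨a, ha⟩, Subtype.ext ?_⟩
      show ⁅a, x⁆ = w
      rw [commutatorElement_def, show a * x * a⁻¹ = a * b * x * (a * b)⁻¹ by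
        rw [mul_assoc a b x, hXcomm b hb x hx]; group, hk']
      group
    have e : F ⟨u, hu⟩ = F 1 := Subtype.ext (by
      show ⁅u, x⁆ = ⁅(1 : N ⧸ B.L), x⁆
      rw [commutatorElement_eq_one_iff_mul_comm.2 hc, commutatorElement_eq_one_iff_mul_comm.2 (by simp)])
    exact congrArg Subtype.val ((Finite.injective_iff_surjective.2 hsurj) e)
  have hU1 : U ≠ ⊥ := fun e => B.lt.not_ge fun x hx => by
    rw [← hπ, ← Subgroup.mem_bot, ← e, ← hUdef]; exact Subgroup.mem_map_of_mem π hx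
  haveI : Nontrivial U := (Subgroup.nontrivial_iff_ne_bot _).2 hU1
  have hfpf : CfsgLib.Frobenius.IsFpf ((MulAut.conjNormal (H := U)).comp X.subtype) := by
    intro x hx u hu
    refine Subtype.ext (hfixX x x.2 (fun e => hx (Subtype.ext e)) u u.2 ?_)
    have := congrArg Subtype.val hu
    simp only [MonoidHom.comp_apply, Subgroup.coe_subtype, MulAut.conjNormal_apply] at this
    exact (mul_inv_eq_iff_eq_mul.1 this).symm
  obtain ⟨⟨g₁, hg₁⟩, hgen⟩ := (hfpf.isCyclic_of_comm fun a b => Subtype.ext (hXcomm a a.2 b b.2)).exists_generator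
  obtain ⟨g, hg, hgπ⟩ := (hH₁.symm ▸ ((hmemX g₁).1 hg₁).1 : g₁ ∈ (commutator N).map π)
  -- modulo the second derived subgroup everything is a power of `g`
  set ρ := QuotientGroup.mk' (⁅commutator N, commutator N⁆ : Subgroup N) with hρdef
  have hρ : ∀ x, ρ x = 1 ↔ x ∈ ⁅commutator N, commutator N⁆ := fun x => QuotientGroup.eq_one_iff x
  have hpow : ∀ h ∈ commutator N, ∃ i : ℤ, ρ h = ρ g ^ i := by
    intro h hh
    obtain ⟨w, hw, x, hx, e⟩ := hdec (π h) (hH₁ ▸ Subgroup.mem_map_of_mem π hh)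
    obtain ⟨i, hi⟩ := Subgroup.mem_zpowers_iff.1 (hgen ⟨x, hx⟩)
    have hxg : g₁ ^ i = x := congrArg Subtype.val hi
    refine ⟨i, ?_⟩
    have h1 : h * (g ^ i)⁻¹ ∈ ⁅commutator N, commutator N⁆ := hmemU _ (by
      rw [map_mul, map_inv, map_zpow, hgπ, hxg, e, mul_inv_cancel_right]; exact hw)
    rw [← map_zpow, ← mul_inv_eq_one, ← map_inv, ← map_mul, hρ]
    exact h1
  have hend : ∀ f : MulAut N, ∀ h : N, ∀ i : ℤ, ρ h = ρ g ^ i → ρ (f h) = ρ (f g) ^ i := by
    intro f h i e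
    rw [← map_zpow, ← mul_inv_eq_one, ← map_inv, ← map_mul, hρ] at e ⊢
    have := aut_mem_derived f e
    rwa [map_mul, map_inv, map_zpow] at this
  obtain ⟨a₀, ha₀⟩ : ∃ a, D.x⁻¹ * D.α D.x = a := ⟨_, rfl⟩
  have ha₀A : a₀ ∈ D.A := ha₀ ▸ D.A.mul_mem (D.A.inv_mem D.xA) (D.αA _ D.xA)
  have ha₀m : D.α a₀ ≠ a₀ := by
    intro e
    have hstep : ∀ n : ℕ, (D.α ^ n) D.x = D.x * a₀ ^ n := by
      intro n
      induction n with
      | zero => simp
      | succ n ih =>
        rw [pow_succ', MulAut.mul_apply, ih, map_mul, map_pow, e, ← ha₀, pow_succ', ← mul_assoc]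
        congr 1
        group
    have h1 := hstep D.r
    rw [D.hn₀, MulAut.conj_apply, D.comm _ D.n₀A _ D.xA, mul_inv_cancel_right, left_eq_mul] at h1
    have h2 : a₀ ^ orderOf D.x = 1 := by
      rw [← ha₀, (show Commute D.x⁻¹ (D.α D.x) from D.comm _ (D.A.inv_mem D.xA) _ (D.αA _ D.xA)).mul_pow,
        inv_pow, pow_orderOf_eq_one, inv_one, one_mul, ← map_pow, pow_orderOf_eq_one, map_one]
    have h3 : a₀ = 1 := orderOf_eq_one_iff.1 (Nat.eq_one_of_dvd_coprimes
      ((D.hr.coprime_iff_not_dvd).2 D.hxr) (orderOf_dvd_of_pow_eq_one h1) (orderOf_dvd_of_pow_eq_one h2))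
    exact D.hx (by rw [ha₀, h3]; exact Subgroup.one_mem _)
  haveI := D.solv
  obtain ⟨h, hh, hn⟩ := D.exists_not_mem ha₀A ha₀m le_rfl
    (commutator_lt_of_solvable (X := N) fun e => B.lt.ne_bot (by rw [e, Subgroup.commutator_bot_left]))
  apply hn
  obtain ⟨i, hi⟩ := hpow (D.x * g * D.x⁻¹) (Subgroup.Normal.conj_mem inferInstance g hg D.x)
  obtain ⟨j, hj⟩ := hpow (D.α g) (aut_mem_commutator D.α hg)
  obtain ⟨t, ht⟩ := hpow (D.α.symm g) (aut_mem_commutator D.α.symm hg)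
  have h1 : ρ (D.x * D.α.symm g * D.x⁻¹) = ρ g ^ (i * t) := by
    have := hend (MulAut.conj D.x) _ t ht
    rw [MulAut.conj_apply, MulAut.conj_apply] at this
    rw [this, hi, ← zpow_mul]
  have h2 : ρ g = ρ g ^ (j * t) := by
    have := hend D.α _ t ht
    rwa [MulEquiv.apply_symm_apply, hj, ← zpow_mul] at this
  have h3 : ρ (D.α D.x * g * (D.α D.x)⁻¹) = ρ g ^ i := by
    have := hend D.α _ (i * t) h1
    rw [show D.α (D.x * D.α.symm g * D.x⁻¹) = D.α D.x * g * (D.α D.x)⁻¹ by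
      rw [map_mul, map_mul, map_inv, MulEquiv.apply_symm_apply], hj, ← zpow_mul] at this
    rw [this, mul_comm i t, ← mul_assoc, zpow_mul, ← h2]
  obtain ⟨s, hs⟩ := hpow h hh
  have h4 : ρ (D.α D.x * h * (D.α D.x)⁻¹) = ρ (D.x * h * D.x⁻¹) := by
    have e1 := hend (MulAut.conj (D.α D.x)) _ s hs
    have e2 := hend (MulAut.conj D.x) _ s hs
    simp only [MulAut.conj_apply] at e1 e2
    rw [e1, e2, h3, hi]
  rw [← hρ, map_commutatorElement, commutatorElement_eq_one_iff_mul_comm, ← ha₀]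
  simp only [map_mul, map_inv] at h4 ⊢
  calc ρ h * ((ρ D.x)⁻¹ * ρ (D.α D.x)) = (ρ D.x)⁻¹ * (ρ D.x * ρ h * (ρ D.x)⁻¹) * ρ (D.α D.x) := by group
    _ = (ρ D.x)⁻¹ * (ρ (D.α D.x) * ρ h * (ρ (D.α D.x))⁻¹) * ρ (D.α D.x) := by rw [h4]
    _ = (ρ D.x)⁻¹ * ρ (D.α D.x) * ρ h := by group

/-- The section is central in the derived subgroup. -/
theorem Below.central (B : D.Below) {q : ℕ} [Fact q.Prime] {n : ℕ}
    (hn : B.L.relIndex (commutator N) = q ^ n) :
    ∀ u ∈ ⁅commutator N, commutator N⁆, ∀ h ∈ commutator N, ⁅u, h⁆ ∈ B.L := by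
  classical
  haveI := B.normal
  set π := QuotientGroup.mk' B.L with hπdef
  have hπ : ∀ x, π x = 1 ↔ x ∈ B.L := fun x => QuotientGroup.eq_one_iff x
  obtain ⟨H₁, hH₁⟩ : ∃ H₁, (commutator N).map π = H₁ := ⟨_, rfl⟩
  haveI : H₁.Normal := hH₁ ▸ Subgroup.Normal.map inferInstance π (QuotientGroup.mk'_surjective B.L)
  let M : Subgroup N := ⁅commutator N, commutator N⁆ ⊓ (Subgroup.centralizer (H₁ : Set (N ⧸ B.L))).comap π
  have hmem : ∀ u, u ∈ M ↔ u ∈ ⁅commutator N, commutator N⁆ ∧ ∀ h ∈ commutator N, ⁅u, h⁆ ∈ B.L := by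
    intro u
    simp only [M, Subgroup.mem_inf, Subgroup.mem_comap, Subgroup.mem_centralizer_iff, ← hH₁]
    refine and_congr_right fun _ => ⟨fun hc h hh => ?_, fun hc y hy => ?_⟩
    · rw [← hπ, map_commutatorElement, commutatorElement_eq_one_iff_mul_comm]
      exact (hc _ (Subgroup.mem_map_of_mem π hh)).symm
    · obtain ⟨h, hh, rfl⟩ := hy
      have := hc h hh
      rw [← hπ, map_commutatorElement, commutatorElement_eq_one_iff_mul_comm] at this
      exact this.symm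
  haveI : M.Normal := inferInstance
  rcases B.max M inferInstance (fun u hu => (hmem u).2 ⟨B.lt.le hu, fun h _ => by
      rw [← hπ, map_commutatorElement, (hπ u).2 hu, commutatorElement_one_left]⟩) inf_le_left
    (fun u hu => by
      obtain ⟨hu1, hu2⟩ := (hmem u).1 hu
      refine (hmem _).2 ⟨aut_mem_derived D.α hu1, fun h hh => ?_⟩
      have := B.inv _ (hu2 _ (aut_mem_commutator D.α.symm hh))
      rwa [map_commutatorElement, MulEquiv.apply_symm_apply] at this) with e | e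
  swap
  · exact fun u hu => ((hmem u).1 (e.symm ▸ hu)).2
  exfalso
  obtain ⟨U, hU⟩ : ∃ U, ⁅commutator N, commutator N⁆.map π = U := ⟨_, rfl⟩
  haveI : U.Normal := hU ▸ Subgroup.Normal.map inferInstance π (QuotientGroup.mk'_surjective B.L)
  have hH : IsPGroup q H₁ := IsPGroup.of_card (n := n) (by
    rw [← hH₁, ← Subgroup.relIndex_ker, QuotientGroup.ker_mk', hn])
  letI : MulAction H₁ U := MulAction.compHom U ((MulAut.conjNormal (H := U)).comp H₁.subtype)
  have hsm : ∀ (x : H₁) (w : U), ((x • w : U) : N ⧸ B.L) = x * w * (x : N ⧸ B.L)⁻¹ := fun x w =>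
    MulAut.conjNormal_apply _ _
  have hU1 : U ≠ ⊥ := fun e => B.lt.not_ge fun x hx => by
    rw [← hπ, ← Subgroup.mem_bot, ← e, ← hU]; exact Subgroup.mem_map_of_mem π hx
  have hqU : q ∣ Nat.card U := by
    have hle : U ≤ H₁ := hU ▸ hH₁ ▸ Subgroup.map_mono (Subgroup.commutator_le_left _ _)
    obtain ⟨m, hm⟩ := IsPGroup.iff_card.1 (hH.to_le hle)
    have : m ≠ 0 := fun e => hU1 (Subgroup.eq_bot_of_card_eq U (by rw [hm, e, pow_zero]))
    exact hm ▸ dvd_pow_self q this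
  obtain ⟨⟨w, hw⟩, hwfix, hw1⟩ := hH.exists_fixed_point_of_prime_dvd_card_of_fixed_point U hqU (a := 1)
    (fun x => Subtype.ext (by rw [hsm]; simp))
  obtain ⟨u, hu, rfl⟩ := (hU.symm ▸ hw : w ∈ ⁅commutator N, commutator N⁆.map π)
  have hM : u ∈ M := (hmem u).2 ⟨hu, fun h hh => by
    rw [← hπ, map_commutatorElement, commutatorElement_eq_one_iff_mul_comm]
    have := congrArg Subtype.val (hwfix ⟨π h, hH₁ ▸ Subgroup.mem_map_of_mem π hh⟩)
    rw [hsm] at this
    exact (mul_inv_eq_iff_eq_mul.1 this).symm⟩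
  rw [e] at hM
  exact hw1 (Subtype.ext ((hπ u).2 hM).symm)

/-- The section is smaller than the abelianisation. -/
theorem Below.card_lt (B : D.Below)
    (hc : ∀ u ∈ ⁅commutator N, commutator N⁆, ∀ h ∈ commutator N, ⁅u, h⁆ ∈ B.L)
    (hne : ⁅commutator N, commutator N⁆ < commutator N) :
    B.L.relIndex ⁅commutator N, commutator N⁆ < ⁅commutator N, commutator N⁆.relIndex (commutator N) := by
  classical
  haveI := B.normal
  obtain ⟨h, hh, hh'⟩ := SetLike.exists_of_lt hne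
  set π := QuotientGroup.mk' B.L with hπdef
  have hπ : ∀ x, π x = 1 ↔ x ∈ B.L := fun x => QuotientGroup.eq_one_iff x
  have hcomm : ∀ k ∈ commutator N, ∀ w ∈ ⁅commutator N, commutator N⁆, π w * π k = π k * π w :=
    fun k hk w hw => commutatorElement_eq_one_iff_mul_comm.1 (by
      rw [← map_commutatorElement, hπ]; exact hc w hw k hk)
  let f : commutator N →* N ⧸ B.L := MonoidHom.mk' (fun k => π ⁅(k : N), h⁆) fun a b => by
    have hb : ⁅(b : N), h⁆ ∈ ⁅commutator N, commutator N⁆ := Subgroup.commutator_mem_commutator b.2 hh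
    have ha : ⁅(a : N), h⁆ ∈ ⁅commutator N, commutator N⁆ := Subgroup.commutator_mem_commutator a.2 hh
    show π ⁅((a * b : commutator N) : N), h⁆ = π ⁅(a : N), h⁆ * π ⁅(b : N), h⁆
    rw [show ⁅((a * b : commutator N) : N), h⁆ = (a : N) * ⁅(b : N), h⁆ * (a : N)⁻¹ * ⁅(a : N), h⁆ by
      simp [commutatorElement_def, mul_assoc], map_mul, map_mul, map_mul,
      ← hcomm a a.2 _ hb, map_inv, mul_inv_cancel_right]
    exact hcomm _ ((Subgroup.commutator_le_left _ _) ha) _ hb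
  have hrange : Nat.card f.range = B.L.relIndex ⁅commutator N, commutator N⁆ := by
    conv_rhs => rw [← QuotientGroup.ker_mk' B.L, Subgroup.relIndex_ker]
    congr 1
    apply congrArg (fun K : Subgroup (N ⧸ B.L) => (K : Type u))
    ext z
    constructor
    · rintro ⟨k, rfl⟩
      exact Subgroup.mem_map_of_mem π (Subgroup.commutator_mem_commutator k.2 hh)
    · rintro ⟨u, hu, rfl⟩
      obtain ⟨k, hk, hk'⟩ := D.camina hh hh' hu
      refine ⟨⟨k, hk⟩, ?_⟩
      show π ⁅k, h⁆ = π u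
      rw [commutatorElement_def, hk', map_mul, map_mul, map_inv, ← hcomm h hh u hu, mul_inv_cancel_right]
  have hker : ⁅commutator N, commutator N⁆.subgroupOf (commutator N) < f.ker := by
    refine lt_of_le_of_ne (fun k hk => ?_) fun e => ?_
    · rw [MonoidHom.mem_ker]
      show π ⁅(k : N), h⁆ = 1
      rw [hπ]; exact hc _ (Subgroup.mem_subgroupOf.1 hk) h hh
    · have : (⟨h, hh⟩ : commutator N) ∈ f.ker := by
        rw [MonoidHom.mem_ker]
        show π ⁅h, h⁆ = 1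
        rw [commutatorElement_self, map_one]
      rw [← e] at this
      exact hh' (Subgroup.mem_subgroupOf.1 this)
  rw [← hrange, ← Subgroup.index_ker]
  exact Subgroup.index_strictAnti hker

end Std

end CfsgLib.Char.NoDivis
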