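import Cfsg.Agent.Char.NoDivis.Basic
import Cfsg.Agent.Char.CliffordCorrespondence
import Cfsg.Agent.Char.ExtendGlue

/-!
The characters of the derived subgroup: all nontrivial linear ones have the same inertia group, and the
nonlinear ones vanish outside the second derived subgroup.
-/

set_option autoImplicit false
set_option linter.style.haveILetI false
set_option linter.unusedSectionVars false

namespace CfsgLib.Char.NoDivis

open scoped commutatorElement

universe u

variable {N : Type u} [Group N] [Fintype N]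

/-- An automorphism on the derived subgroup. -/
def autC (φ : MulAut N) : commutator N ≃* commutator N where
  toFun h := ⟨φ h, aut_mem_commutator φ h.2⟩
  invFun h := ⟨φ.symm h, aut_mem_commutator φ.symm h.2⟩
  left_inv h := Subtype.ext (φ.symm_apply_apply _)
  right_inv h := Subtype.ext (φ.apply_symm_apply _)
  map_mul' a b := Subtype.ext (map_mul φ (a : N) (b : N))

@[simp] theorem autC_apply (φ : MulAut N) (h : commutator N) : ((autC φ h : commutator N) : N) = φ h := rfl

/-- A linear character as a function. -/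
def lamF {M : Type*} [Group M] (l : M →* ℂˣ) : M → ℂ := fun m => (l m : ℂ)

theorem lamF_mul {M : Type*} [Group M] (l m : M →* ℂˣ) : lamF (l * m) = lamF l * lamF m :=
  funext fun x => by simp [lamF]

theorem lamF_inj {M : Type*} [Group M] {l m : M →* ℂˣ} (h : lamF l = lamF m) : l = m :=
  MonoidHom.ext fun x => Units.ext (congrFun h x)

/-- Conjugation on the linear characters of the derived subgroup. -/
def cj (n : N) (l : ↥(commutator N) →* ℂˣ) : ↥(commutator N) →* ℂˣ :=
  l.comp (MulAut.conjNormal n : MulAut ↥(commutator N)).toMonoidHom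

theorem lamF_cj (n : N) (l : ↥(commutator N) →* ℂˣ) : lamF (cj n l) = conjOn n (lamF l) :=
  funext fun x => by
    show ((l _ : ℂˣ) : ℂ) = ((l _ : ℂˣ) : ℂ)
    exact congrArg (fun z => ((l z : ℂˣ) : ℂ)) (Subtype.ext (MulAut.conjNormal_apply n x))

theorem cj_fix {n : N} {l : ↥(commutator N) →* ℂˣ} : cj n l = l ↔ n ∈ inertia (lamF l) := by
  rw [mem_inertia, ← lamF_cj]
  exact ⟨fun h => by rw [h], lamF_inj⟩

theorem cj_mul (n : N) (l m : ↥(commutator N) →* ℂˣ) : cj n (l * m) = cj n l * cj n m := rfl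

theorem conjOn_comm (n m : N) {θ : ↥(commutator N) → ℂ} (hθ : Cfsg.IsClassFunction ↥(commutator N) θ) :
    conjOn (n * m) θ = conjOn (m * n) θ := by
  rw [show n * m = ⁅n, m⁆ * (m * n) by rw [commutatorElement_def]; group]
  refine conjOn_mul_of_mem (le_inertia hθ ?_) _
  rw [commutator_def]
  exact Subgroup.commutator_mem_commutator (Subgroup.mem_top n) (Subgroup.mem_top m)

theorem conjOn_mul (n : N) (f g : ↥(commutator N) → ℂ) : conjOn n (f * g) = conjOn n f * conjOn n g := rfl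

theorem conj_mem_inertia {θ : ↥(commutator N) → ℂ} (hθ : Cfsg.IsClassFunction ↥(commutator N) θ) (a : N)
    {n : N} (hn : n ∈ inertia θ) : n ∈ inertia (conjOn a θ) := by
  rw [mem_inertia, conjOn_conjOn, conjOn_comm a n hθ, ← conjOn_conjOn, (mem_inertia θ n).1 hn]

theorem inertia_normal {θ : ↥(commutator N) → ℂ} (hθ : Cfsg.IsClassFunction ↥(commutator N) θ) :
    (inertia θ).Normal :=
  ⟨fun n hn g => by
    rw [show g * n * g⁻¹ = ⁅g, n⁆ * n by rw [commutatorElement_def]; group]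
    refine (inertia θ).mul_mem (le_inertia hθ ?_) hn
    rw [commutator_def]
    exact Subgroup.commutator_mem_commutator (Subgroup.mem_top g) (Subgroup.mem_top n)⟩

theorem mem_commutator_coe {h : commutator N} :
    h ∈ commutator ↥(commutator N) ↔ (h : N) ∈ ⁅commutator N, commutator N⁆ := by
  rw [← Subgroup.map_subtype_commutator]
  exact ⟨fun hh => ⟨h, hh, rfl⟩, fun ⟨y, hy, e⟩ => by
    rw [show h = y from (Subtype.ext e).symm]; exact hy⟩

theorem comm_swap {M : Type*} [CommGroup M] {a b c d : M} (h : a * b = c * d) : d * b⁻¹ = a * c⁻¹ := by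
  rw [← div_eq_mul_inv, ← div_eq_mul_inv, div_eq_div_iff_mul_eq_mul, mul_comm d c, h]

theorem comm_cross {M : Type*} [CommGroup M] {a b c d : M} (h : a * b⁻¹ = c * d⁻¹) : a * c⁻¹ = b * d⁻¹ := by
  rw [← div_eq_mul_inv, ← div_eq_mul_inv] at h ⊢
  rw [div_eq_div_iff_div_eq_div.1 h]

namespace Std

variable (D : Std N)

include D in
/-- A nontrivial character of the derived subgroup lies under a nonlinear character, whose constituents
are then permuted by the automorphism. -/
theorem exists_above {θ : ↥(commutator N) → ℂ} (hθ : Cfsg.IsIrrCharacter ↥(commutator N) θ) (hne : θ ≠ 1)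
    {t : ℕ} (ht : θ 1 = t) :
    (∃ ψ : N → ℂ, ∃ a : ℕ, Cfsg.IsIrrCharacter N ψ ∧ ψ 1 = a ∧ a ≠ 1 ∧ (inertia θ).index * t ∣ a) ∧
      ∃ b ∈ D.A, (fun h => θ (autC D.α h)) = conjOn b θ := by
  classical
  haveI := Fintype.ofFinite (commutator N)
  obtain ⟨ψ, hψ, hc⟩ := DegreesPrime.exists_over (commutator N) hθ
  have h1 : ψ 1 ≠ 1 := fun h1 => by
    obtain ⟨lam, rfl⟩ := IsCharacter.exists_hom (IsIrrCharacter.isCharacter hψ) h1
    apply hc
    have : (fun n : commutator N => ((lam (n : N) : ℂˣ) : ℂ)) = 1 := funext fun n => by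
      simp [show lam (n : N) = 1 from MonoidHom.mem_ker.1 (Abelianization.commutator_subset_ker lam n.2)]
    rw [this]
    exact IsIrrCharacter.classInner_of_ne isIrrCharacter_one hθ (Ne.symm hne)
  obtain ⟨a, -, ha⟩ := IsIrrCharacter.exists_degree hψ
  refine ⟨⟨ψ, a, hψ, ha, fun e => h1 (by rw [ha, e, Nat.cast_one]), ?_⟩, ?_⟩
  · obtain ⟨e, he⟩ := IsCharacter.exists_classInner_eq_natCast
      (IsCharacter.restrict (IsIrrCharacter.isCharacter hψ) (commutator N)) hθ
    have h := degree_eq_mul hψ hθ hc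
    rw [he, ha, ht, ← Nat.cast_mul, ← Nat.cast_mul, Nat.cast_inj] at h
    exact ⟨e, by rw [h]; ring⟩
  · have hirr : Cfsg.IsIrrCharacter ↥(commutator N) (fun h => θ (autC D.α h)) :=
      IsIrrCharacter.comp_surjective hθ (autC D.α).toMonoidHom (autC D.α).surjective
    have hc' : Cfsg.classInner (fun n : commutator N => ψ n) (fun h => θ (autC D.α h)) ≠ 0 := by
      have e : (fun n : commutator N => ψ n) = fun n => (fun m : commutator N => ψ m) (autC D.α n) :=
        funext fun n => by show ψ n = ψ (D.α n); rw [D.fix ψ hψ h1]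
      rw [e, classInner_comp_mulEquiv (autC D.α) (fun m : commutator N => ψ m) θ]
      exact hc
    obtain ⟨n, hn⟩ := mem_conjOrbit.1 (mem_conjOrbit_of_constituent hψ hθ hirr hc hc')
    obtain ⟨k, hk, b, hb, rfl⟩ := D.gen n
    exact ⟨b, hb, by rw [hn, conjOn_mul_of_mem (le_inertia (IsIrrCharacter.isClassFunction hθ) hk)]⟩

theorem not_dvd_index {θ : ↥(commutator N) → ℂ} (hθ : Cfsg.IsIrrCharacter ↥(commutator N) θ) (hne : θ ≠ 1) :
    ¬ D.r ∣ (inertia θ).index := by
  obtain ⟨t, -, ht⟩ := IsIrrCharacter.exists_degree hθ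
  obtain ⟨ψ, a, hψ, ha, ha1, hd⟩ := (D.exists_above hθ hne ht).1
  exact fun h => D.cop ψ hψ a ha ha1 (dvd_trans (dvd_mul_of_dvd_left h t) hd)

theorem lamF_ne {l : ↥(commutator N) →* ℂˣ} (hl : l ≠ 1) : lamF l ≠ 1 := fun e =>
  hl (lamF_inj (e.trans (funext fun _ => by simp [lamF])))

include D in
/-- The index of the inertia group of a linear character is a degree. -/
theorem lin_degree {l : ↥(commutator N) →* ℂˣ} (hl : l ≠ 1) :
    ∃ ψ : N → ℂ, Cfsg.IsIrrCharacter N ψ ∧ ψ 1 = ((inertia (lamF l)).index : ℂ) ∧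
      (inertia (lamF l)).index ≠ 1 := by
  classical
  haveI := Fintype.ofFinite (commutator N)
  have hirr : Cfsg.IsIrrCharacter ↥(commutator N) (lamF l) := isIrrCharacter_ofHom l
  obtain ⟨I, hI⟩ : ∃ I, inertia (lamF l) = I := ⟨_, rfl⟩
  haveI := Fintype.ofFinite I
  have hNI : commutator N ≤ I := hI ▸ le_inertia (IsIrrCharacter.isClassFunction hirr)
  let K := (commutator N).subgroupOf I
  haveI : K.Normal := Subgroup.normal_subgroupOf
  have htop : K ⊔ D.A.subgroupOf I = ⊤ := by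
    rw [eq_top_iff]
    intro y _
    obtain ⟨k, hk, b, hb, e⟩ := D.gen (y : N)
    have hbI : b ∈ I := by
      have := I.mul_mem (I.inv_mem (hNI hk)) y.2
      rwa [e, inv_mul_cancel_left] at this
    have : y = (⟨k, hNI hk⟩ : I) * ⟨b, hbI⟩ := Subtype.ext e
    rw [this]
    exact Subgroup.mul_mem_sup (Subgroup.mem_subgroupOf.2 hk) (Subgroup.mem_subgroupOf.2 hb)
  obtain ⟨F, hF, -⟩ := exists_hom_glue K (D.A.subgroupOf I) htop
    (l.comp (Subgroup.subgroupOfEquivOfLe hNI).toMonoidHom) (1 : D.A.subgroupOf I →* ℂˣ)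
    (fun y h1 h2 => by
      have hy : y = 1 :=
        Subtype.ext (D.disj _ (Subgroup.mem_subgroupOf.1 h2) (Subgroup.mem_subgroupOf.1 h1))
      subst hy
      exact map_one _)
    (fun y z => by
      have hy : ((y : I) : N) ∈ inertia (lamF l) := hI ▸ (y : I).2
      exact Units.ext ((mem_inertia_iff _ _).1 hy ⟨((z : I) : N), Subgroup.mem_subgroupOf.1 z.2⟩))
  have hres : (fun h : commutator N => ((F (Subgroup.inclusion hNI h) : ℂˣ) : ℂ)) = lamF l := by
    funext h
    exact congrArg Units.val (hF ⟨Subgroup.inclusion hNI h, Subgroup.mem_subgroupOf.2 h.2⟩)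
  have hirrI := (isIrrCharacter_indFun_of_inertia hNI hirr hI (isIrrCharacter_ofHom F) (by
    rw [hres, IsIrrCharacter.classInner_self hirr]; exact one_ne_zero)).1
  refine ⟨_, hirrI, by rw [hI, indFun_one, map_one, Units.val_one, mul_one], fun e => ?_⟩
  rw [hI, Subgroup.index_eq_one] at e
  subst e
  refine hl (MonoidHom.ext fun h => ?_)
  have h1 : (F.comp Subgroup.topEquiv.symm.toMonoidHom) (h : N) = 1 :=
    MonoidHom.mem_ker.1 (Abelianization.commutator_subset_ker _ h.2)
  exact (Units.ext (congrFun hres h)).symm.trans h1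

include D in
/-- All nontrivial linear characters have the same inertia group. -/
theorem inertia_eq {l₁ l₂ : ↥(commutator N) →* ℂˣ} (h₁ : l₁ ≠ 1) (h₂ : l₂ ≠ 1) :
    inertia (lamF l₁) = inertia (lamF l₂) := by
  have hmin : ∀ {l m : ↥(commutator N) →* ℂˣ}, l ≠ 1 → m ≠ 1 →
      inertia (lamF l) ≤ inertia (lamF m) → inertia (lamF l) = inertia (lamF m) := by
    intro l m hl hm hle
    obtain ⟨ψ, hψ, hψ1, hi⟩ := D.lin_degree hl
    obtain ⟨φ, hφ, hφ1, hj⟩ := D.lin_degree hm
    have heq := D.anti φ ψ hφ hψ _ _ hφ1 hψ1 hj hi (Subgroup.index_dvd_of_le hle)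
    exact le_antisymm hle (Subgroup.relIndex_eq_one.1 (by
      have h3 := Subgroup.relIndex_mul_index hle
      rw [heq] at h3
      exact (mul_eq_right₀ Subgroup.index_ne_zero_of_finite).1 h3))
  by_contra hne
  have h12 : l₁ * l₂ ≠ 1 := fun e => hne (by
    ext n
    rw [← cj_fix, ← cj_fix, show l₂ = l₁⁻¹ from (eq_inv_of_mul_eq_one_right (α := (↥(commutator N) →* ℂˣ)) e),
      show cj n l₁⁻¹ = (cj n l₁)⁻¹ from rfl]
    exact (inv_inj (G := (↥(commutator N) →* ℂˣ)) (a := cj n l₁) (b := l₁)).symm)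
  have hle : inertia (lamF (l₁ * l₂)) ≤ inertia (lamF l₁) := by
    intro n hn
    rw [← cj_fix, cj_mul] at hn
    rw [← cj_fix]
    by_contra hν
    obtain ⟨ν, hνdef⟩ : ∃ ν, cj n l₁ * l₁⁻¹ = ν := ⟨_, rfl⟩
    have hν' : l₂ * (cj n l₂)⁻¹ = ν := hνdef ▸ comm_swap (M := (↥(commutator N) →* ℂˣ)) hn
    have hν1 : ν ≠ 1 := fun e => hν ((mul_inv_eq_one (G := ↥(commutator N) →* ℂˣ)).1 (hνdef.trans e))
    have hcom : ∀ (l : ↥(commutator N) →* ℂˣ), ∀ y ∈ inertia (lamF l), cj y (cj n l) = cj n l := by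
      intro l y hy
      rw [cj_fix, lamF_cj]
      exact conj_mem_inertia (IsIrrCharacter.isClassFunction (isIrrCharacter_ofHom l)) n hy
    have e1 : inertia (lamF l₁) ≤ inertia (lamF ν) := fun y hy => by
      rw [← cj_fix, ← hνdef, cj_mul, hcom l₁ y hy, show cj y l₁⁻¹ = (cj y l₁)⁻¹ from rfl, cj_fix.2 hy]
    have e2 : inertia (lamF l₂) ≤ inertia (lamF ν) := fun y hy => by
      rw [← cj_fix, ← hν', cj_mul, show cj y (cj n l₂)⁻¹ = (cj y (cj n l₂))⁻¹ from rfl, hcom l₂ y hy,
        cj_fix.2 hy]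
    exact hne ((hmin h₁ hν1 e1).trans (hmin h₂ hν1 e2).symm)
  have heq := hmin h12 h₁ hle
  refine hne (hmin h₁ h₂ fun n hn => ?_)
  have h := cj_fix.2 (heq.symm ▸ hn : n ∈ inertia (lamF (l₁ * l₂)))
  rw [cj_mul, cj_fix.2 hn, mul_left_cancel_iff] at h
  exact cj_fix.1 h

include D in
theorem derived_lt (hH : commutator N ≠ ⊥) : ⁅commutator N, commutator N⁆ < commutator N := by
  haveI := D.solv
  haveI : Nontrivial (commutator N) := (Subgroup.nontrivial_iff_ne_bot _).2 hH
  refine lt_of_le_of_ne (Subgroup.commutator_le_left _ _) fun e => ?_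
  have h2 : commutator ↥(commutator N) < ⊤ := Group.IsSolvable.commutator_lt_top_of_nontrivial _
  exact h2.ne (eq_top_iff.2 fun h _ => mem_commutator_coe.2 (by rw [e]; exact h.2))

include D in
theorem exists_lam (hH : commutator N ≠ ⊥) : ∃ l : ↥(commutator N) →* ℂˣ, l ≠ 1 := by
  obtain ⟨h, hh, hh'⟩ := SetLike.exists_of_lt (D.derived_lt hH)
  obtain ⟨l, hl⟩ := exists_hom_ne_one (g := (⟨h, hh⟩ : commutator N))
    (fun e => hh' (mem_commutator_coe.1 e))
  exact ⟨l, fun e => hl (by rw [e, MonoidHom.one_apply])⟩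

/-- No element of the derived subgroup is centralised by a moved element modulo a proper part. -/
theorem exists_not_mem {a : N} (ha : a ∈ D.A) (hm : D.α a ≠ a) {H M : Subgroup N}
    (hH : H ≤ commutator N) (hM : M < H) : ∃ h ∈ H, ⁅h, a⁆ ∉ M := by
  by_contra hno
  push Not at hno
  have hinj : Function.Injective (fun h : H => (⟨⁅(h : N), a⁆, hno h h.2⟩ : M)) := fun h k e => by
    have e' : ⁅(h : N), a⁆ = ⁅(k : N), a⁆ := congrArg Subtype.val e
    simp only [commutatorElement_def, mul_left_inj] at e'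
    have : ((k : N)⁻¹ * h) * a = a * ((k : N)⁻¹ * h) := by
      calc ((k : N)⁻¹ * h) * a = (k : N)⁻¹ * ((h : N) * a * (h : N)⁻¹) * h := by group
        _ = (k : N)⁻¹ * ((k : N) * a * (k : N)⁻¹) * h := by rw [e']
        _ = a * ((k : N)⁻¹ * h) := by group
    exact Subtype.ext (inv_mul_eq_one.1 (D.fpf a ha hm _
      (Subgroup.mul_mem _ (Subgroup.inv_mem _ (hH k.2)) (hH h.2)) this)).symm
  have h1 := Nat.card_le_card_of_injective _ hinj
  exact hM.ne (Subgroup.eq_of_le_of_card_ge hM.le h1)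

/-- A moved element fixes no nontrivial linear character. -/
theorem moved_notMem {a : N} (ha : a ∈ D.A) (hm : D.α a ≠ a) {l : ↥(commutator N) →* ℂˣ} (hl : l ≠ 1) :
    a ∉ inertia (lamF l) := by
  intro hal
  have hH : commutator N ≠ ⊥ := fun e => hl (MonoidHom.ext fun h => by
    rw [show h = 1 from Subtype.ext (Subgroup.mem_bot.1 (e.le h.2)), map_one, map_one])
  obtain ⟨h, hh, hn⟩ := D.exists_not_mem ha hm le_rfl (D.derived_lt hH)
  have hmem : ⁅h, a⁆ ∈ commutator N := by
    rw [commutator_def]; exact Subgroup.commutator_mem_commutator (Subgroup.mem_top _) (Subgroup.mem_top _)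
  obtain ⟨m, hm'⟩ := exists_hom_ne_one (g := (⟨⁅h, a⁆, hmem⟩ : commutator N))
    (fun e => hn (mem_commutator_coe.1 e))
  have hm1 : m ≠ 1 := fun e => hm' (by rw [e, MonoidHom.one_apply])
  rw [D.inertia_eq hl hm1, mem_inertia_iff] at hal
  have h3 : m ⟨a * h * a⁻¹, Subgroup.Normal.conj_mem inferInstance h hh a⟩ = m ⟨h, hh⟩ :=
    Units.ext (hal ⟨h, hh⟩)
  apply hm'
  rw [show (⟨⁅h, a⁆, hmem⟩ : commutator N) =
      ⟨h, hh⟩ * (⟨a * h * a⁻¹, Subgroup.Normal.conj_mem inferInstance h hh a⟩ : commutator N)⁻¹ from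
    Subtype.ext (by simp [commutatorElement_def, mul_assoc]), map_mul, map_inv, h3, mul_inv_cancel]

include D in
/-- A nonlinear character of the derived subgroup is fixed outside the common inertia group. -/
theorem exists_fix {θ : ↥(commutator N) → ℂ} (hθ : Cfsg.IsIrrCharacter ↥(commutator N) θ) (h1 : θ 1 ≠ 1)
    {l : ↥(commutator N) →* ℂˣ} (hl : l ≠ 1) : ∃ y ∈ inertia θ, y ∉ inertia (lamF l) := by
  by_contra hno
  push Not at hno
  obtain ⟨t, -, ht⟩ := IsIrrCharacter.exists_degree hθ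
  obtain ⟨ψ, a, hψ, ha, ha1, hd⟩ := (D.exists_above hθ (fun e => h1 (by rw [e]; rfl)) ht).1
  obtain ⟨φ, hφ, hφ1, hi⟩ := D.lin_degree hl
  have hdvd : (inertia (lamF l)).index ∣ (inertia θ).index := Subgroup.index_dvd_of_le hno
  have heq := D.anti φ ψ hφ hψ _ a hφ1 ha hi ha1 (dvd_trans (dvd_mul_of_dvd_left hdvd t) hd)
  rw [← heq] at hd
  have hpos : 0 < (inertia θ).index := Nat.pos_of_ne_zero Subgroup.index_ne_zero_of_finite
  have h4 : (inertia θ).index * t ∣ (inertia θ).index * 1 := by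
    rw [mul_one]; exact dvd_trans hd hdvd
  have : t = 1 := Nat.dvd_one.1 (Nat.dvd_of_mul_dvd_mul_left hpos h4)
  exact h1 (by rw [ht, this, Nat.cast_one])

include D in
/-- The nonlinear characters of the derived subgroup are invariant under twisting. -/
theorem twist_eq {θ : ↥(commutator N) → ℂ} (hθ : Cfsg.IsIrrCharacter ↥(commutator N) θ) (h1 : θ 1 ≠ 1)
    (l : ↥(commutator N) →* ℂˣ) : θ * lamF l = θ := by
  classical
  haveI := Fintype.ofFinite (commutator N)
  by_cases hl0 : l = 1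
  · subst hl0; funext h; simp [lamF]
  let S : Subgroup (↥(commutator N) →* ℂˣ) :=
    { carrier := {m | θ * lamF m = θ}
      one_mem' := funext fun h => by simp [lamF]
      mul_mem' := fun {a b} ha hb => by
        show θ * lamF (a * b) = θ
        rw [lamF_mul, ← mul_assoc, ha, hb]
      inv_mem' := fun {a} ha => by
        show θ * lamF a⁻¹ = θ
        conv_lhs => rw [← show θ * lamF a = θ from ha]
        rw [mul_assoc, ← lamF_mul, show a * a⁻¹ = 1 from mul_inv_cancel a]
        funext h; simp [lamF] }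
  have hS : ∀ m, m ∈ S ↔ θ * lamF m = θ := fun _ => Iff.rfl
  have shift : ∀ z, z ∉ inertia (lamF l) → (∀ m ∈ S, cj z m ∈ S) → ∀ m, cj z m * m⁻¹ ∈ S → m ∈ S := by
    intro z hz hst m hm
    haveI : Finite (↥(commutator N) →* ℂˣ) := Nat.finite_of_card_ne_zero
      (by rw [card_hom_eq_index_commutator]; exact Subgroup.index_ne_zero_of_finite)
    have hker : ∀ m, cj z m = m → m = 1 := fun m hm => by
      by_contra hne
      exact hz (D.inertia_eq hne hl0 ▸ cj_fix.1 hm)
    have hinj : Function.Injective (fun m : S => (⟨cj z m * (m : ↥(commutator N) →* ℂˣ)⁻¹,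
        S.mul_mem (hst m m.2) (S.inv_mem m.2)⟩ : S)) := fun a b e => by
      refine Subtype.ext ?_
      have e' := congrArg Subtype.val e
      simp only at e'
      have : cj z ((a : ↥(commutator N) →* ℂˣ) * (b : ↥(commutator N) →* ℂˣ)⁻¹) = a * (b : ↥(commutator N) →* ℂˣ)⁻¹ := by
        rw [cj_mul, show cj z (b : ↥(commutator N) →* ℂˣ)⁻¹ = (cj z b)⁻¹ from rfl]
        exact comm_cross (M := (↥(commutator N) →* ℂˣ)) e'
      exact (mul_inv_eq_one (G := ↥(commutator N) →* ℂˣ)).1 (hker _ this)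
    obtain ⟨⟨a, ha⟩, e⟩ := (Finite.injective_iff_surjective.1 hinj) ⟨_, hm⟩
    have e' : cj z a * a⁻¹ = cj z m * m⁻¹ := congrArg Subtype.val e
    have : cj z (m * a⁻¹) = m * a⁻¹ := by
      rw [cj_mul, show cj z a⁻¹ = (cj z a)⁻¹ from rfl]
      exact comm_cross (M := (↥(commutator N) →* ℂˣ)) e'.symm
    rw [((mul_inv_eq_one (G := ↥(commutator N) →* ℂˣ)).1 (hker _ this) : m = a)]
    exact ha
  obtain ⟨y, hy, hyW⟩ := D.exists_fix hθ h1 hl0
  have hcl := IsIrrCharacter.isClassFunction hθ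
  obtain ⟨y', hy', hy'W⟩ := D.exists_fix (IsIrrCharacter.mul_hom hθ l) (by simpa using h1) hl0
  replace hy' : conjOn y' (θ * lamF l) = θ * lamF l := (mem_inertia _ _).1 hy'
  have hcan : ∀ f g : ↥(commutator N) → ℂ, f * lamF l = g * lamF l → f = g := fun f g e => funext fun h =>
    mul_right_cancel₀ (Units.ne_zero (l h)) (congrFun e h)
  refine (hS l).1 (shift y hyW (fun m hm => ?_) l ?_)
  · rw [hS] at hm ⊢
    conv_lhs => rw [← (mem_inertia θ y).1 hy]
    rw [lamF_cj, ← conjOn_mul, hm, (mem_inertia θ y).1 hy]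
  refine shift y' hy'W (fun m hm => ?_) _ ?_
  · rw [hS] at hm ⊢
    refine hcan _ _ ?_
    rw [mul_right_comm]
    conv_lhs => rw [← hy']
    rw [lamF_cj, ← conjOn_mul, mul_right_comm, hm, hy']
  · obtain ⟨μ, hμ⟩ : ∃ μ, cj y l * l⁻¹ = μ := ⟨_, rfl⟩
    rw [hμ]
    have hyθl : conjOn y (θ * lamF l) = θ * lamF l * lamF μ := by
      rw [conjOn_mul, (mem_inertia θ y).1 hy, ← lamF_cj, mul_assoc, ← lamF_mul, ← hμ,
        show l * (cj y l * l⁻¹) = cj y l from mul_inv_cancel_comm_assoc l (cj y l)]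
    have h2 : conjOn y' (conjOn y (θ * lamF l)) = conjOn y (θ * lamF l) := by
      rw [conjOn_conjOn, conjOn_comm y y' (θ := θ * lamF l) (IsIrrCharacter.isClassFunction (IsIrrCharacter.mul_hom hθ l)),
        ← conjOn_conjOn, hy']
    rw [hyθl, conjOn_mul, hy', ← lamF_cj] at h2
    have h3 : θ * lamF (cj y' μ) = θ * lamF μ := hcan _ _ (by
      rw [mul_right_comm, h2, mul_right_comm])
    rw [hS, lamF_mul, ← mul_assoc, h3, mul_assoc, ← lamF_mul, show μ * μ⁻¹ = 1 from mul_inv_cancel μ]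
    funext h; simp [lamF]

include D in
/-- Outside the second derived subgroup, classes of the derived subgroup are whole cosets. -/
theorem camina {h u : N} (hh : h ∈ commutator N) (hh' : h ∉ ⁅commutator N, commutator N⁆)
    (hu : u ∈ ⁅commutator N, commutator N⁆) : ∃ k ∈ commutator N, k * h * k⁻¹ = h * u := by
  classical
  haveI := Fintype.ofFinite (commutator N)
  have hu' : u ∈ commutator N := (Subgroup.commutator_le_left _ _) hu
  have hzero : ∀ (v : commutator N), (v : N) ∉ ⁅commutator N, commutator N⁆ →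
      ∀ θ, Cfsg.IsIrrCharacter ↥(commutator N) θ → θ 1 ≠ 1 → θ v = 0 := by
    intro v hv θ hθ h1
    obtain ⟨l, hl⟩ := exists_hom_ne_one (g := v) (fun e => hv (mem_commutator_coe.1 e))
    have := congrFun (D.twist_eq hθ h1 l) v
    simp only [Pi.mul_apply, lamF] at this
    by_contra h0
    exact hl (Units.ext ((mul_eq_left₀ h0).1 this))
  have hconj : IsConj (⟨h, hh⟩ : commutator N) (⟨h, hh⟩ * ⟨u, hu'⟩) := by
    rw [isConj_iff_irr_eq]
    intro θ hθ
    by_cases h1 : θ 1 = 1
    · obtain ⟨l, rfl⟩ := IsCharacter.exists_hom (IsIrrCharacter.isCharacter hθ) h1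
      have : l ⟨u, hu'⟩ = 1 := MonoidHom.mem_ker.1
        (Abelianization.commutator_subset_ker l (mem_commutator_coe.2 hu))
      show ((l ⟨h, hh⟩ : ℂˣ) : ℂ) = ((l (⟨h, hh⟩ * ⟨u, hu'⟩) : ℂˣ) : ℂ)
      rw [map_mul, this, mul_one]
    · rw [hzero _ hh' θ hθ h1, hzero _ (fun e => hh' ?_) θ hθ h1]
      have := Subgroup.mul_mem _ e (Subgroup.inv_mem _ hu)
      simpa using this
  obtain ⟨k, hk⟩ := isConj_iff.1 hconj
  exact ⟨k, k.2, by simpa using congrArg Subtype.val hk⟩

end Std

end CfsgLib.Char.NoDivis
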