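import Cfsg.Agent.Char.NoDivis.Bottom
import Cfsg.Agent.Char.Monomial

/-!
All nonlinear degrees are equal.
-/

set_option autoImplicit false
set_option linter.style.haveILetI false
set_option linter.unusedSectionVars false

namespace CfsgLib.Char.NoDivis

open scoped commutatorElement

universe u

variable {N : Type u} [Group N] [Fintype N]

/-- Precomposition of a linear character with conjugation. -/
def cjK (K : Subgroup N) [K.Normal] (n : N) (m : K →* ℂˣ) : K →* ℂˣ :=
  m.comp (MulAut.conjNormal n : MulAut K).toMonoidHom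

theorem cjK_apply (K : Subgroup N) [hK : K.Normal] (n : N) (m : K →* ℂˣ) (u : K) :
    cjK K n m u = m ⟨n * u * n⁻¹, hK.conj_mem u u.2 n⟩ :=
  congrArg m (Subtype.ext (MulAut.conjNormal_apply n u))

theorem cjK_cjK (K : Subgroup N) [hK : K.Normal] (a b : N) (m : K →* ℂˣ) :
    cjK K a (cjK K b m) = cjK K (b * a) m :=
  MonoidHom.ext fun u => by
    rw [cjK_apply, cjK_apply, cjK_apply]
    exact congrArg m (Subtype.ext (by simp [mul_assoc]))

namespace Std

variable (D : Std N)

theorem pow_apply (k : ℕ) {a : N} (ha : a ∈ D.A) : (D.α ^ (D.r * k + 1)) a = D.α a := by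
  rw [pow_succ, MulAut.mul_apply, pow_mul, D.hn₀, ← map_pow, MulAut.conj_apply,
    D.comm _ (D.A.pow_mem D.n₀A k) _ (D.αA a ha), mul_inv_cancel_right]

/-- The count of fixed linear characters of an invariant normal subgroup. -/
theorem equation (K : Subgroup N) [K.Normal] (hK : ∀ u ∈ K, D.α u ∈ K) (M : Subgroup (K →* ℂˣ))
    [Finite M] (hconj : ∀ n : N, ∀ m ∈ M, cjK K n m ∈ M)
    (hαM : ∀ m ∈ M, m.comp ((D.α.toMonoidHom.comp K.subtype).codRestrict K fun u => hK u u.2) ∈ M)
    (W : Subgroup N) [W.Normal] (hW : ∀ m ∈ M, m ≠ 1 → ∀ n : N, cjK K n m = m ↔ n ∈ W)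
    (hidx : ¬ D.r ∣ W.index)
    (horb : ∀ m ∈ M, m ≠ 1 → ∃ a ∈ D.A,
      m.comp ((D.α.toMonoidHom.comp K.subtype).codRestrict K fun u => hK u u.2) = cjK K a m)
    (k : ℕ) (hk : D.n₀ ^ (D.r * k + 1) ∈ W)
    (P : Subgroup D.A) (hP : ∀ a : D.A, a ∈ P ↔ (a : N)⁻¹ * D.α.symm a ∈ W) :
    ∃ F : Subgroup M, (Nat.card D.A : ℤ) * ((Nat.card F : ℤ) - 1) =
      ((Nat.card M : ℤ) - 1) * (Nat.card P : ℤ) := by
  classical
  haveI := Fact.mk D.hr
  haveI := Fintype.ofFinite M
  let β : MulAut N := D.α ^ (D.r * k + 1)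
  have hsymA : ∀ a ∈ D.A, D.α.symm a ∈ D.A := fun a ha => by
    have hinj : Function.Injective (fun b : D.A => (⟨D.α b, D.αA b b.2⟩ : D.A)) := fun b c e =>
      Subtype.ext (D.α.injective (congrArg Subtype.val e))
    obtain ⟨⟨b, hb⟩, e⟩ := (Finite.injective_iff_surjective.1 hinj) ⟨a, ha⟩
    rw [← show D.α b = a from congrArg Subtype.val e, MulEquiv.symm_apply_apply]
    exact hb
  have hpowK : ∀ (n : ℕ) (u : N), u ∈ K → (D.α ^ n) u ∈ K := by
    intro n
    induction n with
    | zero => exact fun u hu => hu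
    | succ n ih => intro u hu; rw [pow_succ', MulAut.mul_apply]; exact hK _ (ih u hu)
  let e1 : K →* K := (D.α.toMonoidHom.comp K.subtype).codRestrict K fun u => hK u u.2
  let eN : ℕ → (K →* K) := fun n =>
    ((D.α ^ n).toMonoidHom.comp K.subtype).codRestrict K fun u => hpowK n u u.2
  have heN : ∀ n (u : K), ((eN n u : K) : N) = (D.α ^ n) u := fun n u => rfl
  have hM : ∀ n, ∀ m ∈ M, m.comp (eN n) ∈ M := by
    intro n
    induction n with
    | zero => intro m hm; exact (show m.comp (eN 0) = m from MonoidHom.ext fun u => rfl) ▸ hm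
    | succ n ih =>
      intro m hm
      have h1 := hαM _ (ih m hm)
      have e : (m.comp (eN n)).comp e1 = m.comp (eN (n + 1)) := MonoidHom.ext fun u =>
        congrArg m (Subtype.ext (by
          show (D.α ^ n) (D.α (u : N)) = (D.α ^ (n + 1)) u
          rw [pow_succ, MulAut.mul_apply]))
      exact e ▸ h1
  have hor : ∀ n, ∀ m ∈ M, m ≠ 1 → ∃ a ∈ D.A, m.comp (eN n) = cjK K a m := by
    intro n
    induction n with
    | zero => intro m _ _; exact ⟨1, D.A.one_mem, MonoidHom.ext fun u => by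
        rw [cjK_apply]; exact congrArg m (Subtype.ext (by simp [heN]))⟩
    | succ n ih =>
      intro m hm hm1
      obtain ⟨a, ha, e⟩ := ih m hm hm1
      have hne : cjK K a m ≠ 1 := fun h => hm1 (MonoidHom.ext fun u => by
        have h2 : cjK K a⁻¹ (cjK K a m) u = 1 := by rw [h]; rfl
        rw [cjK_cjK, mul_inv_cancel, cjK_apply] at h2
        simpa using h2)
      obtain ⟨b, hb, e'⟩ := horb _ (hconj a m hm) hne
      refine ⟨a * b, D.A.mul_mem ha hb, ?_⟩
      rw [← cjK_cjK, ← e', ← e]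
      exact MonoidHom.ext fun u => congrArg m (Subtype.ext (by
        show (D.α ^ (n + 1)) (u : N) = (D.α ^ n) (D.α (u : N))
        rw [pow_succ, MulAut.mul_apply]))
  obtain ⟨e, he⟩ : ∃ e, eN (D.r * k + 1) = e := ⟨_, rfl⟩
  have heu : ∀ u : K, ((e u : K) : N) = β u := fun u => by rw [← he, heN]
  have heinj : Function.Injective e := fun a b h => Subtype.ext (β.injective (by
    rw [← heu, ← heu, h]))
  have hesurj : Function.Surjective e := Finite.injective_iff_surjective.1 heinj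
  let Ω := {m : M // m ≠ 1}
  have hne1 : ∀ (m : Ω), (m.1 : K →* ℂˣ) ≠ 1 := fun m h => m.2 (Subtype.ext h)
  let act : D.A → Ω → Ω := fun a m =>
    ⟨⟨cjK K a m.1, hconj _ _ m.1.2⟩, fun h => hne1 m (MonoidHom.ext fun u => by
      have h2 : cjK K (a : N)⁻¹ (cjK K a m.1) u = 1 := by
        rw [show cjK K (a : N) m.1 = 1 from congrArg Subtype.val h]; rfl
      rw [cjK_cjK, mul_inv_cancel, cjK_apply] at h2
      simpa using h2)⟩
  have hact : ∀ (a b : D.A) (m : Ω), act a (act b m) = act (a * b) m := fun a b m =>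
    Subtype.ext (Subtype.ext (by
      show cjK K a (cjK K b m.1) = cjK K ((a * b : D.A) : N) m.1
      rw [cjK_cjK, Subgroup.coe_mul, D.comm _ a.2 _ b.2]))
  have hact1 : ∀ m : Ω, act 1 m = m := fun m => Subtype.ext (Subtype.ext (MonoidHom.ext fun u => by
    show cjK K (((1 : D.A) : N)) m.1 u = m.1.1 u
    rw [cjK_apply]; exact congrArg m.1.1 (Subtype.ext (by simp))))
  let π : D.A →* Equiv.Perm Ω := MonoidHom.mk'
    (fun a => ⟨act a, act a⁻¹, fun m => by rw [hact, inv_mul_cancel, hact1],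
      fun m => by rw [hact, mul_inv_cancel, hact1]⟩)
    (fun a b => Equiv.ext fun m => (hact a b m).symm)
  let σf : Ω → Ω := fun m => ⟨⟨m.1.1.comp e, he ▸ hM _ _ m.1.2⟩, fun h => hne1 m (MonoidHom.ext fun u => by
    obtain ⟨v, rfl⟩ := hesurj u
    exact congrArg (fun z : K →* ℂˣ => z v) (congrArg Subtype.val h))⟩
  have hσinj : Function.Injective σf := fun m m' h => Subtype.ext (Subtype.ext (MonoidHom.ext fun u => by
    obtain ⟨v, rfl⟩ := hesurj u
    exact congrArg (fun z : K →* ℂˣ => z v) (congrArg (fun z : Ω => z.1.1) h)))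
  let σ : Equiv.Perm Ω := Equiv.ofBijective σf ⟨hσinj, Finite.injective_iff_surjective.1 hσinj⟩
  let τ : D.A →* D.A := (D.α.symm.toMonoidHom.comp D.A.subtype).codRestrict D.A fun a => hsymA a a.2
  have hWfix : ∀ (a : D.A) (m : Ω), π a m = m ↔ (a : N) ∈ W := fun a m => by
    rw [← hW _ m.1.2 (hne1 m)]
    exact ⟨fun h => congrArg (fun z : Ω => z.1.1) h, fun h => Subtype.ext (Subtype.ext h)⟩
  have hcount := count_fixed π σ τ
    (fun a m => Subtype.ext (Subtype.ext (MonoidHom.ext fun u => by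
      show cjK K (a : N) m.1 (e u) = cjK K (D.α.symm (a : N)) (m.1.1.comp e) u
      rw [cjK_apply, cjK_apply]
      refine congrArg m.1.1 (Subtype.ext ?_)
      show (a : N) * (e u : N) * (a : N)⁻¹ = _
      rw [heu, heu, map_mul, map_mul, map_inv,
        show β (D.α.symm (a : N)) = a from by
          rw [D.pow_apply k (hsymA a a.2), MulEquiv.apply_symm_apply]])))
    (W.subgroupOf D.A) (fun a m => by rw [hWfix, Subgroup.mem_subgroupOf]) P
    (fun a => by rw [hP, Subgroup.mem_subgroupOf]; rfl) D.r ?_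
    (fun h => hidx (h.trans (Subgroup.relIndex_dvd_index_of_normal W D.A))) ?_
  rotate_left
  · have hstep : ∀ (n : ℕ) (m : Ω) (u : K), ((σ ^ n) m).1.1 u = m.1.1 (e^[n] u) := by
      intro n
      induction n with
      | zero => intro m u; rfl
      | succ n ih =>
        intro m u
        rw [pow_succ', Equiv.Perm.mul_apply, Function.iterate_succ_apply]
        exact ih m (e u)
    refine Equiv.ext fun m => Subtype.ext (Subtype.ext (MonoidHom.ext fun u => ?_))
    rw [hstep, Equiv.Perm.one_apply]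
    have hit : ∀ n (u : K), ((e^[n] u : K) : N) = (β ^ n) u := by
      intro n
      induction n with
      | zero => intro u; rfl
      | succ n ih =>
        intro u
        rw [Function.iterate_succ_apply, ih, heu, pow_succ, MulAut.mul_apply]
    have hfix := congrArg (fun z : K →* ℂˣ => z u) ((hW _ m.1.2 (hne1 m) (D.n₀ ^ (D.r * k + 1))).2 hk)
    simp only [cjK_apply] at hfix
    rw [← hfix]
    refine congrArg m.1.1 (Subtype.ext ?_)
    rw [hit, show β ^ D.r = MulAut.conj (D.n₀ ^ (D.r * k + 1)) by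
      rw [map_pow, ← D.hn₀, ← pow_mul, ← pow_mul, mul_comm], MulAut.conj_apply]
  · intro m
    obtain ⟨a, ha, e'⟩ := hor (D.r * k + 1) m.1.1 m.1.2 (hne1 m)
    rw [he] at e'
    exact ⟨⟨a, ha⟩, Subtype.ext (Subtype.ext e')⟩
  let F : Subgroup M :=
    { carrier := {m | m.1.comp e = m.1}
      one_mem' := MonoidHom.one_comp e
      mul_mem' := fun {a b} ha hb => by
        show (a.1 * b.1).comp e = a.1 * b.1
        rw [MonoidHom.mul_comp, ha, hb]
      inv_mem' := fun {a} ha => by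
        show (a.1⁻¹).comp e = a.1⁻¹
        rw [MonoidHom.inv_comp, ha] }
  refine ⟨F, ?_⟩
  have hfixcard : Nat.card {m : Ω // σ m = m} + 1 = Nat.card F := by
    haveI := Fintype.ofFinite F
    let emb : {m : Ω // σ m = m} ≃ {x : F // x ≠ 1} :=
      { toFun := fun m => ⟨⟨m.1.1, congrArg (fun z : Ω => z.1.1) m.2⟩, fun h => m.1.2 (congrArg Subtype.val h)⟩
        invFun := fun x => ⟨⟨x.1.1, fun h => x.2 (Subtype.ext h)⟩, Subtype.ext (Subtype.ext x.1.2)⟩
        left_inv := fun m => rfl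
        right_inv := fun x => rfl }
    rw [Nat.card_congr emb, Nat.card_eq_fintype_card, Nat.card_eq_fintype_card, Fintype.card_subtype_compl,
      Fintype.card_subtype_eq]
    have := Fintype.card_pos (α := F)
    omega
  have hΩ : Nat.card Ω + 1 = Nat.card M := by
    rw [Nat.card_eq_fintype_card, Nat.card_eq_fintype_card, Fintype.card_subtype_compl,
      Fintype.card_subtype_eq]
    have := Fintype.card_pos (α := M)
    omega
  rw [← hfixcard, ← hΩ]
  push_cast
  simp only [add_sub_cancel_right]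
  exact_mod_cast hcount

include D in
theorem derived_bot : ⁅commutator N, commutator N⁆ = ⊥ := by
  classical
  by_contra hne
  haveI := D.solv
  obtain ⟨B⟩ := D.exists_below hne
  haveI := B.normal
  have hH : commutator N ≠ ⊥ := fun e => hne (by rw [e, Subgroup.commutator_bot_left])
  have hlt := D.derived_lt hH
  obtain ⟨q, hq, hqU, habU⟩ := B.exists_prime
  haveI := Fact.mk hq
  obtain ⟨n, hn⟩ := B.qgroup hq hqU
  have hc := B.central hn
  have hcard := B.card_lt hc hlt
  obtain ⟨⟨a, ha⟩, ⟨b, hb⟩⟩ : (∃ a, B.L.relIndex ⁅commutator N, commutator N⁆ = q ^ a) ∧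
      ∃ b, ⁅commutator N, commutator N⁆.relIndex (commutator N) = q ^ b := by
    have h := Subgroup.relIndex_mul_relIndex B.L ⁅commutator N, commutator N⁆ (commutator N) B.lt.le
      (Subgroup.commutator_le_left _ _)
    rw [hn] at h
    refine ⟨?_, ?_⟩
    · obtain ⟨a, -, ha⟩ := (Nat.dvd_prime_pow hq).1 ⟨_, h.symm⟩
      exact ⟨a, ha⟩
    · obtain ⟨b, -, hb⟩ := (Nat.dvd_prime_pow hq).1 (Dvd.intro_left _ h)
      exact ⟨b, hb⟩
  obtain ⟨l₀, hl₀⟩ := D.exists_lam hH
  -- the linear characters of the section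
  obtain ⟨K, hK⟩ : ∃ K, (⁅commutator N, commutator N⁆ : Subgroup N) = K := ⟨_, rfl⟩
  rw [hK] at ha hqU habU hc
  haveI : K.Normal := hK ▸ inferInstance
  have hKH : K ≤ commutator N := hK ▸ Subgroup.commutator_le_left _ _
  have hKα : ∀ u ∈ K, D.α u ∈ K := fun u hu => hK ▸ aut_mem_derived D.α (hK.symm ▸ hu)
  have hLK : B.L < K := hK ▸ B.lt
  let MU : Subgroup (K →* ℂˣ) :=
    { carrier := {m | ∀ u : K, (u : N) ∈ B.L → m u = 1}
      one_mem' := fun u _ => rfl
      mul_mem' := fun {x y} hx hy u hu => by rw [MonoidHom.mul_apply, hx u hu, hy u hu, one_mul]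
      inv_mem' := fun {x} hx u hu => by rw [MonoidHom.inv_apply, hx u hu, inv_one] }
  let L' := B.L.subgroupOf K
  haveI : L'.Normal := Subgroup.normal_subgroupOf
  have hKab : commutator (K ⧸ L') = ⊥ := by
    rw [commutator_def, eq_bot_iff, Subgroup.commutator_le]
    intro x _ y _
    obtain ⟨x, rfl⟩ := QuotientGroup.mk'_surjective L' x
    obtain ⟨y, rfl⟩ := QuotientGroup.mk'_surjective L' y
    rw [Subgroup.mem_bot, ← map_commutatorElement]
    refine (QuotientGroup.eq_one_iff _).2 (Subgroup.mem_subgroupOf.2 ?_)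
    simpa [commutatorElement_def] using habU x x.2 y y.2
  have hMUcard : Nat.card MU = q ^ a := by
    rw [← ha, show B.L.relIndex K = Nat.card (K ⧸ L') from rfl, ← Subgroup.index_bot (G := K ⧸ L'), ← hKab,
      ← card_hom_eq_index_commutator]
    refine Nat.card_congr
      { toFun := fun m => QuotientGroup.lift L' m.1 fun u hu => m.2 u (Subgroup.mem_subgroupOf.1 hu)
        invFun := fun f => ⟨f.comp (QuotientGroup.mk' L'), fun u hu => by
          rw [MonoidHom.comp_apply, show QuotientGroup.mk' L' u = 1 from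
            (QuotientGroup.eq_one_iff u).2 (Subgroup.mem_subgroupOf.2 hu), map_one]⟩
        left_inv := fun m => Subtype.ext (MonoidHom.ext fun u => rfl)
        right_inv := fun f => MonoidHom.ext fun z => by
          induction z using QuotientGroup.induction_on
          rfl }
  haveI : Finite MU := Nat.finite_of_card_ne_zero (by rw [hMUcard]; exact pow_ne_zero _ hq.pos.ne')
  have hconjU : ∀ g : N, ∀ m ∈ MU, cjK K g m ∈ MU := fun g m hm u hu => by
    rw [cjK_apply]; exact hm _ (B.normal.conj_mem _ hu g)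
  let eK : K →* K := (D.α.toMonoidHom.comp K.subtype).codRestrict K fun u => hKα u u.2
  have hαU : ∀ m ∈ MU, m.comp eK ∈ MU := fun m hm u hu => hm _ (B.inv _ hu)
  have hfixH : ∀ m ∈ MU, ∀ h ∈ commutator N, cjK K h m = m := fun m hm h hh => MonoidHom.ext fun u => by
    rw [cjK_apply]
    have h1 := hm (⟨h * u * h⁻¹, (inferInstance : K.Normal).conj_mem u u.2 h⟩ * u⁻¹)
      (by
        have := hc u u.2 h hh
        have h2 := B.L.inv_mem this
        rw [commutatorElement_inv] at h2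
        simpa [commutatorElement_def, mul_assoc] using h2)
    rwa [map_mul, map_inv, mul_inv_eq_one] at h1
  have hstab : ∀ m ∈ MU, m ≠ 1 → (∃ a ∈ D.A, m.comp eK = cjK K a m) ∧
      ∃ W : Subgroup N, commutator N ≤ W ∧ ¬ D.r ∣ W.index ∧ ∀ g, cjK K g m = m ↔ g ∈ W := by
    intro m hm hm1
    haveI := Fintype.ofFinite (commutator N)
    let K' := K.subgroupOf (commutator N)
    haveI : K'.Normal := Subgroup.normal_subgroupOf
    haveI := Fintype.ofFinite K'
    let m' : K' →* ℂˣ := m.comp (Subgroup.subgroupOfEquivOfLe hKH).toMonoidHom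
    obtain ⟨θ, hθ, hθm⟩ := DegreesPrime.exists_over K' (isIrrCharacter_ofHom m')
    have hI : inertia (G := ↥(commutator N)) (fun x : K' => (m' x : ℂ)) = ⊤ :=
      inertia_eq_top fun g x => by
        have h1 := hfixH m hm g g.2
        have h2 := congrArg (fun z : K →* ℂˣ => ((z ⟨((x : commutator N) : N), Subgroup.mem_subgroupOf.1 x.2⟩ : ℂˣ) : ℂ)) h1
        simp only [cjK_apply] at h2
        exact h2
    have hres := restrict_eq_smul_of_invariant hθ (isIrrCharacter_ofHom m') hI hθm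
    obtain ⟨c, hc'⟩ : ∃ c, Cfsg.classInner (fun x : K' => θ x) (fun x => (m' x : ℂ)) = c := ⟨_, rfl⟩
    rw [hc'] at hres hθm
    have hval : ∀ u : K, θ ⟨u, hKH u.2⟩ = c * (m u : ℂ) := fun u =>
      congrFun hres ⟨⟨u, hKH u.2⟩, Subgroup.mem_subgroupOf.2 u.2⟩
    have hne : θ ≠ 1 := fun e => hm1 (MonoidHom.ext fun u => by
      have h1 := hval u
      have h2 := hval 1
      rw [e] at h1 h2
      simp only [Pi.one_apply, map_one, Units.val_one, mul_one] at h1 h2
      rw [← h2, one_mul] at h1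
      exact Units.ext h1.symm)
    obtain ⟨t, -, ht⟩ := IsIrrCharacter.exists_degree hθ
    obtain ⟨b, hb, hθb⟩ := (D.exists_above hθ hne ht).2
    refine ⟨⟨b, hb, MonoidHom.ext fun u => Units.ext (mul_left_cancel₀ hθm ?_)⟩,
      ⟨{ carrier := {g | cjK K g m = m}
         one_mem' := MonoidHom.ext fun u => by rw [cjK_apply]; exact congrArg m (Subtype.ext (by simp))
         mul_mem' := fun {x y} hx hy => by
           show cjK K (x * y) m = m
           rw [← cjK_cjK, hx, hy]
         inv_mem' := fun {x} hx => by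
           show cjK K x⁻¹ m = m
           conv_lhs => rw [← show cjK K x m = m from hx]
           rw [cjK_cjK, mul_inv_cancel]
           exact MonoidHom.ext fun u => by rw [cjK_apply]; exact congrArg m (Subtype.ext (by simp)) },
        fun g hg => hfixH m hm g hg, ?_, fun g => Iff.rfl⟩⟩
    · have h1 := congrFun hθb ⟨u, hKH u.2⟩
      rw [conjOn_apply] at h1
      rw [cjK_apply, ← hval]
      exact (hval (eK u)).symm.trans h1
    · intro hd
      refine D.not_dvd_index hθ hne (hd.trans (Subgroup.index_dvd_of_le fun g hg => ?_))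
      refine MonoidHom.ext fun u => Units.ext (mul_left_cancel₀ hθm ?_)
      have h1 := (mem_inertia_iff θ g).1 hg ⟨u, hKH u.2⟩
      rw [cjK_apply, ← hval, ← hval]
      exact h1
  -- the common stabiliser on the section
  obtain ⟨ν, hν, hν1⟩ : ∃ ν ∈ MU, ν ≠ 1 := by
    by_contra h
    push Not at h
    have h1 : Nat.card MU = 1 := Nat.card_eq_one_iff_exists.2 ⟨1, fun x => Subtype.ext (h x x.2)⟩
    have h2 : B.L.relIndex K = 1 := by rw [ha, ← hMUcard, h1]
    exact hLK.not_ge (Subgroup.relIndex_eq_one.1 h2)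
  obtain ⟨W, hHW, hWidx, hWν⟩ := (hstab ν hν hν1).2
  haveI hWn : W.Normal := ⟨fun x hx g => by
    rw [show g * x * g⁻¹ = ⁅g, x⁆ * x by rw [commutatorElement_def]; group]
    refine W.mul_mem (hHW ?_) hx
    rw [commutator_def]
    exact Subgroup.commutator_mem_commutator (Subgroup.mem_top g) (Subgroup.mem_top x)⟩
  have hWall : ∀ m ∈ MU, m ≠ 1 → ∀ g, cjK K g m = m ↔ g ∈ W := by
    have haux : ∀ μ ∈ MU, μ ≠ 1 → ∀ g, cjK K g μ = μ → ∀ m ∈ MU, cjK K g m = m := by
      intro μ hμ hμ1 g hg m hm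
      obtain ⟨Wμ, hHμ, -, hWμ⟩ := (hstab μ hμ hμ1).2
      -- the characters fixed by the stabiliser of `μ` cut out the section's bottom
      let T : Set (K →* ℂˣ) := {x | x ∈ MU ∧ ∀ y ∈ Wμ, cjK K y x = x}
      have hμT : μ ∈ T := ⟨hμ, fun y hy => (hWμ y).2 hy⟩
      have hTconj : ∀ z : N, ∀ x ∈ T, cjK K z x ∈ T := fun z x hx => by
        refine ⟨hconjU z x hx.1, fun y hy => ?_⟩
        have hzy : ⁅z, y⁆ ∈ commutator N := by
          rw [commutator_def]
          exact Subgroup.commutator_mem_commutator (Subgroup.mem_top z) (Subgroup.mem_top y)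
        rw [cjK_cjK, show z * y = ⁅z, y⁆ * (y * z) by rw [commutatorElement_def]; group, ← cjK_cjK,
          hfixH x hx.1 _ hzy, ← cjK_cjK, hx.2 y hy]
      have hTα : ∀ x ∈ T, x.comp eK ∈ T := fun x hx => by
        by_cases hx1 : x = 1
        · subst hx1
          rw [MonoidHom.one_comp]
          exact hx
        obtain ⟨c, hc, e⟩ := (hstab x hx.1 hx1).1
        rw [e]; exact hTconj c x hx
      let L₁ : Subgroup N :=
        { carrier := {u | ∃ hu : u ∈ K, ∀ x ∈ T, x ⟨u, hu⟩ = 1}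
          one_mem' := ⟨K.one_mem, fun x _ => map_one x⟩
          mul_mem' := fun {u v} ⟨hu, hu'⟩ ⟨hv, hv'⟩ => ⟨K.mul_mem hu hv, fun x hx => by
            rw [show (⟨u * v, _⟩ : K) = ⟨u, hu⟩ * ⟨v, hv⟩ from rfl, map_mul, hu' x hx, hv' x hx, one_mul]⟩
          inv_mem' := fun {u} ⟨hu, hu'⟩ => ⟨K.inv_mem hu, fun x hx => by
            rw [show (⟨u⁻¹, _⟩ : K) = (⟨u, hu⟩ : K)⁻¹ from rfl, map_inv, hu' x hx, inv_one]⟩ }
      haveI : L₁.Normal := ⟨fun u ⟨hu, hu'⟩ z => ⟨(inferInstance : K.Normal).conj_mem u hu z, fun x hx => by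
        have := hu' _ (hTconj z x hx)
        rwa [cjK_apply] at this⟩⟩
      rcases B.max L₁ inferInstance (fun u hu => ⟨hLK.le hu, fun x hx => hx.1 _ hu⟩)
        (fun u hu => hK.symm ▸ hu.1) (fun u ⟨hu, hu'⟩ => ⟨hKα u hu, fun x hx => hu' _ (hTα x hx)⟩) with e | e
      · refine MonoidHom.ext fun u => ?_
        rw [cjK_apply]
        have hmem : g * (u : N) * g⁻¹ * (u : N)⁻¹ ∈ L₁ :=
          ⟨K.mul_mem ((inferInstance : K.Normal).conj_mem u u.2 g) (K.inv_mem u.2), fun x hx => by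
            have h1 := congrArg (fun z : K →* ℂˣ => z u) (hx.2 g ((hWμ g).1 hg))
            simp only [cjK_apply] at h1
            rw [show (⟨g * (u : N) * g⁻¹ * (u : N)⁻¹, _⟩ : K) =
              ⟨g * u * g⁻¹, (inferInstance : K.Normal).conj_mem u u.2 g⟩ * u⁻¹ from rfl, map_mul, map_inv, h1,
              mul_inv_cancel]⟩
        rw [e] at hmem
        have h1 := hm (⟨g * u * g⁻¹, (inferInstance : K.Normal).conj_mem u u.2 g⟩ * u⁻¹) hmem
        rwa [map_mul, map_inv, mul_inv_eq_one] at h1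
      · exfalso
        refine hμ1 (MonoidHom.ext fun u => ?_)
        obtain ⟨_, h1⟩ : (u : N) ∈ L₁ := by rw [e, hK]; exact u.2
        exact h1 μ hμT
    intro m hm hm1 g
    rw [← hWν]
    exact ⟨fun h => haux m hm hm1 g h ν hν, fun h => haux ν hν hν1 g h m hm⟩
  -- the linear characters of the derived subgroup
  have hirr₀ : Cfsg.IsIrrCharacter ↥(commutator N) (lamF l₀) := isIrrCharacter_ofHom l₀
  obtain ⟨V, hV⟩ : ∃ V, inertia (lamF l₀) = V := ⟨_, rfl⟩
  haveI hVn : V.Normal := hV ▸ inertia_normal (IsIrrCharacter.isClassFunction hirr₀)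
  have hVidx : ¬ D.r ∣ V.index := hV ▸ D.not_dvd_index hirr₀ (lamF_ne hl₀)
  have hVfix : ∀ m : ↥(commutator N) →* ℂˣ, m ≠ 1 → ∀ g, cjK (commutator N) g m = m ↔ g ∈ V := by
    intro m hm1 g
    rw [← hV, D.inertia_eq hl₀ hm1]
    exact cj_fix
  -- the power of the automorphism
  obtain ⟨k, hk⟩ : ∃ k : ℕ, D.n₀ ^ (D.r * k + 1) ∈ V ⊓ W := by
    have hcop : D.r.Coprime (V.index * W.index) :=
      Nat.Coprime.mul_right (D.hr.coprime_iff_not_dvd.2 hVidx) (D.hr.coprime_iff_not_dvd.2 hWidx)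
    have hpos : 0 < V.index * W.index :=
      Nat.mul_pos (Nat.pos_of_ne_zero Subgroup.index_ne_zero_of_finite) (Nat.pos_of_ne_zero Subgroup.index_ne_zero_of_finite)
    obtain ⟨k, hk⟩ : ∃ k : ℕ, V.index * W.index ∣ D.r * k + 1 := by
      haveI : NeZero (V.index * W.index) := ⟨hpos.ne'⟩
      refine ⟨(-((D.r : ZMod (V.index * W.index))⁻¹)).val, ?_⟩
      rw [← ZMod.natCast_eq_zero_iff, Nat.cast_add, Nat.cast_mul, ZMod.natCast_val, ZMod.cast_id, mul_neg,
        ZMod.coe_mul_inv_eq_one _ hcop, Nat.cast_one, neg_add_cancel]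
    refine ⟨k, ?_, ?_⟩
    · obtain ⟨c, hc'⟩ := dvd_trans (dvd_mul_right _ _) hk
      rw [hc', pow_mul]
      exact V.pow_mem (V.pow_index_mem _) c
    · obtain ⟨c, hc'⟩ := dvd_trans (dvd_mul_left _ _) hk
      rw [hc', pow_mul]
      exact W.pow_mem (W.pow_index_mem _) c
  -- the two stabilisers agree on the commutators with the automorphism
  have hmoved : ∀ x ∈ D.A, D.α x ≠ x → x ∉ V ∧ x ∉ W := by
    intro x hxA hxm
    refine ⟨hV ▸ D.moved_notMem hxA hxm hl₀, fun hx => ?_⟩
    obtain ⟨u, hu, hnot⟩ := D.exists_not_mem hxA hxm hKH hLK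
    apply hnot
    have hall : ∀ m ∈ MU, m (⟨x * u * x⁻¹, (inferInstance : K.Normal).conj_mem u hu x⟩ * ⟨u, hu⟩⁻¹) = 1 := by
      intro m hm
      by_cases hm1 : m = 1
      · rw [hm1]; rfl
      have h1 := congrArg (fun z : K →* ℂˣ => z ⟨u, hu⟩) ((hWall m hm hm1 x).2 hx)
      simp only [cjK_apply] at h1
      rw [map_mul, map_inv, h1, mul_inv_cancel]
    set z : K := ⟨x * u * x⁻¹, (inferInstance : K.Normal).conj_mem u hu x⟩ * ⟨u, hu⟩⁻¹ with hz
    have hzL : (z : N) ∈ B.L := by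
      by_contra hzn
      have hzn' : QuotientGroup.mk' L' z ∉ commutator (K ⧸ L') := fun h => hzn (by
        rw [hKab, Subgroup.mem_bot] at h
        exact Subgroup.mem_subgroupOf.1 ((QuotientGroup.eq_one_iff z).1 h))
      obtain ⟨f, hf⟩ := exists_hom_ne_one hzn'
      exact hf (hall (f.comp (QuotientGroup.mk' L')) fun w hw => by
        rw [MonoidHom.comp_apply, show QuotientGroup.mk' L' w = 1 from
          (QuotientGroup.eq_one_iff w).2 (Subgroup.mem_subgroupOf.2 hw), map_one])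
    have := B.L.inv_mem hzL
    simpa [hz, commutatorElement_def, mul_assoc] using this
  have hsymA : ∀ x ∈ D.A, D.α.symm x ∈ D.A := fun x hx => by
    have hinj : Function.Injective (fun b : D.A => (⟨D.α b, D.αA b b.2⟩ : D.A)) := fun b c e =>
      Subtype.ext (D.α.injective (congrArg Subtype.val e))
    obtain ⟨⟨b, hb⟩, e⟩ := (Finite.injective_iff_surjective.1 hinj) ⟨x, hx⟩
    rw [← show D.α b = x from congrArg Subtype.val e, MulEquiv.symm_apply_apply]
    exact hb
  have hkey : ∀ x ∈ D.A, (x⁻¹ * D.α.symm x ∈ W ↔ x⁻¹ * D.α.symm x ∈ V) ∧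
      (x⁻¹ * D.α.symm x ∈ V → D.α (x⁻¹ * D.α.symm x) = x⁻¹ * D.α.symm x) := by
    intro x hxA
    have hbA : x⁻¹ * D.α.symm x ∈ D.A := D.A.mul_mem (D.A.inv_mem hxA) (hsymA x hxA)
    by_cases hmv : D.α (x⁻¹ * D.α.symm x) = x⁻¹ * D.α.symm x
    · refine ⟨?_, fun _ => hmv⟩
      have hr : (x⁻¹ * D.α.symm x) ^ D.r = 1 := by
        obtain ⟨c, hc'⟩ : ∃ c, x⁻¹ * D.α.symm x = c := ⟨_, rfl⟩
        rw [hc'] at hmv hbA ⊢
        have hx : D.α x = x * c⁻¹ := by
          have h1 := congrArg D.α (show D.α.symm x = x * c by rw [← hc', mul_inv_cancel_left])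
          rw [MulEquiv.apply_symm_apply, map_mul, hmv] at h1
          exact eq_mul_inv_of_mul_eq h1.symm
        have hstep : ∀ n : ℕ, (D.α ^ n) x = x * (c⁻¹) ^ n := by
          intro n
          induction n with
          | zero => simp
          | succ n ih =>
            rw [pow_succ', MulAut.mul_apply, ih, map_mul, map_pow, map_inv, hx, hmv, pow_succ', mul_assoc]
        have h1 := hstep D.r
        rw [D.hn₀, MulAut.conj_apply, D.comm _ D.n₀A _ hxA, mul_inv_cancel_right, left_eq_mul, inv_pow,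
          inv_eq_one] at h1
        exact h1
      have hin : ∀ S : Subgroup N, S.Normal → ¬ D.r ∣ S.index → x⁻¹ * D.α.symm x ∈ S := by
        intro S hS hidx
        have h1 : ∀ y : N, y ^ D.r = 1 → y ∈ S := fun y hy => by
          rw [← QuotientGroup.eq_one_iff, ← orderOf_eq_one_iff]
          exact Nat.eq_one_of_dvd_coprimes (D.hr.coprime_iff_not_dvd.2 hidx)
            (orderOf_dvd_of_pow_eq_one (by rw [← QuotientGroup.mk_pow, hy, QuotientGroup.mk_one]))
            (by rw [Subgroup.index_eq_card]; exact orderOf_dvd_natCard _)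
        exact h1 _ hr
      exact iff_of_true (hin W hWn hWidx) (hin V hVn hVidx)
    · exact ⟨iff_of_false (hmoved _ hbA hmv).2 (hmoved _ hbA hmv).1,
        fun h => absurd h (hmoved _ hbA hmv).1⟩
  let P : Subgroup D.A :=
    { carrier := {x | (x : N)⁻¹ * D.α.symm x ∈ V}
      one_mem' := by simp
      mul_mem' := fun {x y} hx hy => by
        show ((x * y : D.A) : N)⁻¹ * D.α.symm ((x * y : D.A) : N) ∈ V
        rw [show ((x * y : D.A) : N)⁻¹ * D.α.symm ((x * y : D.A) : N) =
            (y : N)⁻¹ * ((x : N)⁻¹ * D.α.symm x) * (y : N) * ((y : N)⁻¹ * D.α.symm y) by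
          simp [mul_assoc]]
        exact V.mul_mem (hVn.conj_mem' _ hx _) hy
      inv_mem' := fun {x} hx => by
        show ((x⁻¹ : D.A) : N)⁻¹ * D.α.symm ((x⁻¹ : D.A) : N) ∈ V
        rw [show ((x⁻¹ : D.A) : N)⁻¹ * D.α.symm ((x⁻¹ : D.A) : N) =
            (x : N) * ((x : N)⁻¹ * D.α.symm x)⁻¹ * (x : N)⁻¹ by simp [mul_assoc]]
        exact hVn.conj_mem _ (V.inv_mem hx) _ }
  haveI : Finite (↥(commutator N) →* ℂˣ) := Nat.finite_of_card_ne_zero
    (by rw [card_hom_eq_index_commutator]; exact Subgroup.index_ne_zero_of_finite)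
  obtain ⟨F₁, hF₁⟩ := D.equation (commutator N) (fun u hu => aut_mem_commutator D.α hu) ⊤
    (fun _ _ _ => Subgroup.mem_top _) (fun _ _ => Subgroup.mem_top _) V (fun m _ hm1 => hVfix m hm1)
    hVidx (fun m _ hm1 => by
      obtain ⟨b, hb, e⟩ := (D.exists_above (isIrrCharacter_ofHom m) (lamF_ne hm1) (t := 1)
        (by simp)).2
      refine ⟨b, hb, MonoidHom.ext fun u => Units.ext ?_⟩
      have h1 := congrFun e u
      rw [conjOn_apply] at h1
      rw [cjK_apply]
      exact h1)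
    k hk.1 P (fun x => Iff.rfl)
  obtain ⟨F₂, hF₂⟩ := D.equation K hKα MU hconjU hαU W hWall hWidx (fun m hm hm1 => (hstab m hm hm1).1)
    k hk.2 P (fun x => (hkey x x.2).1.symm)
  have hM1 : Nat.card (⊤ : Subgroup (↥(commutator N) →* ℂˣ)) = q ^ b := by
    rw [Nat.card_congr Subgroup.topEquiv.toEquiv, card_hom_eq_index_commutator, ← hb]
    show (commutator ↥(commutator N)).index = (⁅commutator N, commutator N⁆.subgroupOf (commutator N)).index
    congr 1
    ext u
    rw [Subgroup.mem_subgroupOf]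
    exact mem_commutator_coe
  obtain ⟨i, -, hi⟩ := (Nat.dvd_prime_pow hq).1 (hM1 ▸ Subgroup.card_subgroup_dvd_card F₁)
  obtain ⟨j, -, hj⟩ := (Nat.dvd_prime_pow hq).1 (hMUcard ▸ Subgroup.card_subgroup_dvd_card F₂)
  rw [hM1, hi] at hF₁
  rw [hMUcard, hj] at hF₂
  push_cast at hF₁ hF₂
  obtain ⟨E, hE⟩ := Subgroup.card_subgroup_dvd_card P
  rw [hE] at hF₁ hF₂
  push_cast at hF₁ hF₂
  have hP0 : (Nat.card P : ℤ) ≠ 0 := by exact_mod_cast Nat.card_pos.ne'
  have hE1 : 1 < E := by
    by_contra hle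
    have hE0 : E = 1 := by
      rcases Nat.eq_zero_or_pos E with h | h
      · rw [h, mul_zero] at hE; exact absurd hE Nat.card_pos.ne'
      · omega
    rw [hE0, mul_one] at hE
    have hPtop : P = ⊤ := Subgroup.eq_top_of_card_eq P hE.symm
    have hxP : (D.x)⁻¹ * D.α.symm D.x ∈ V := (hPtop.symm ▸ Subgroup.mem_top (⟨D.x, D.xA⟩ : D.A) : (⟨D.x, D.xA⟩ : D.A) ∈ P)
    have hfixb := (hkey D.x D.xA).2 hxP
    obtain ⟨c, hc'⟩ : ∃ c, D.x⁻¹ * D.α.symm D.x = c := ⟨_, rfl⟩
    rw [hc'] at hfixb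
    have hx : D.α D.x = D.x * c⁻¹ := by
      have h1 := congrArg D.α (show D.α.symm D.x = D.x * c by rw [← hc', mul_inv_cancel_left])
      rw [MulEquiv.apply_symm_apply, map_mul, hfixb] at h1
      exact eq_mul_inv_of_mul_eq h1.symm
    have hstep : ∀ n : ℕ, (D.α ^ n) D.x = D.x * (c⁻¹) ^ n := by
      intro n
      induction n with
      | zero => simp
      | succ n ih =>
        rw [pow_succ', MulAut.mul_apply, ih, map_mul, map_pow, map_inv, hx, hfixb, pow_succ', mul_assoc]
    have h1 := hstep D.r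
    rw [D.hn₀, MulAut.conj_apply, D.comm _ D.n₀A _ D.xA, mul_inv_cancel_right, left_eq_mul] at h1
    have hcx : c⁻¹ = D.x⁻¹ * D.α D.x := by rw [hx, inv_mul_cancel_left]
    have h2 : c⁻¹ ^ orderOf D.x = 1 := by
      rw [hcx, (show Commute D.x⁻¹ (D.α D.x) from D.comm _ (D.A.inv_mem D.xA) _ (D.αA _ D.xA)).mul_pow,
        inv_pow, pow_orderOf_eq_one, inv_one, one_mul, ← map_pow, pow_orderOf_eq_one, map_one]
    have h3 : c⁻¹ = 1 := orderOf_eq_one_iff.1 (Nat.eq_one_of_dvd_coprimes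
      ((D.hr.coprime_iff_not_dvd).2 D.hxr) (orderOf_dvd_of_pow_eq_one h1) (orderOf_dvd_of_pow_eq_one h2))
    exact D.hx (by rw [← hcx, h3]; exact Subgroup.one_mem _)
  have ha0 : 0 < a := Nat.pos_of_ne_zero fun e => by
    rw [e, pow_zero] at ha
    exact hLK.not_ge (Subgroup.relIndex_eq_one.1 ha)
  have hlt' : q ^ a < q ^ b := by
    rw [← ha, ← hb, ← hK]; exact hcard
  have hab : a < b := (Nat.pow_lt_pow_iff_right hq.one_lt).1 hlt'
  have := exp_unique (E := E) (k := i) (j := j) hq.one_lt hE1 (by omega : 0 < b) ha0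
    (mul_left_cancel₀ hP0 (by linear_combination hF₁))
    (mul_left_cancel₀ hP0 (by linear_combination hF₂))
  omega

include D in
/-- All nonlinear degrees are equal. -/
theorem degree_eq (ψ φ : N → ℂ) (hψ : Cfsg.IsIrrCharacter N ψ) (hφ : Cfsg.IsIrrCharacter N φ)
    (hψ1 : ψ 1 ≠ 1) (hφ1 : φ 1 ≠ 1) : ψ 1 = φ 1 := by
  classical
  haveI := Fintype.ofFinite (commutator N)
  have hab : ∀ u v : commutator N, u * v = v * u := fun u v => by
    have h1 : ⁅(u : N), (v : N)⁆ ∈ ⁅commutator N, commutator N⁆ := Subgroup.commutator_mem_commutator u.2 v.2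
    rw [D.derived_bot, Subgroup.mem_bot, commutatorElement_eq_one_iff_mul_comm] at h1
    exact Subtype.ext h1
  have key : ∀ χ : N → ℂ, Cfsg.IsIrrCharacter N χ → χ 1 ≠ 1 → ∃ l : ↥(commutator N) →* ℂˣ, l ≠ 1 ∧
      χ 1 = ((inertia (lamF l)).index : ℂ) := by
    intro χ hχ hχ1
    obtain ⟨θ, hθ, hc⟩ := exists_constituent_restrict (N := commutator N) hχ
    obtain ⟨l, rfl⟩ := IsCharacter.exists_hom (IsIrrCharacter.isCharacter hθ)
      (IsIrrCharacter.apply_one_eq_one hθ hab)
    obtain ⟨e, he⟩ := IsCharacter.exists_classInner_eq_natCast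
      (IsCharacter.restrict (IsIrrCharacter.isCharacter hχ) (commutator N)) hθ
    obtain ⟨m, -, hm⟩ := IsIrrCharacter.exists_degree hχ
    have hl : l ≠ 1 := by
      intro hl
      subst hl
      apply hχ1
      have hres := restrict_eq_smul_of_invariant hχ hθ (inertia_eq_top fun _ _ => rfl) hc
      -- trivial on the derived subgroup, so linear
      have htriv : ∀ u ∈ commutator N, χ u = χ 1 := fun u hu => by
        have h1 := congrFun hres ⟨u, hu⟩
        have h2 := congrFun hres 1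
        simp only [Pi.smul_apply, smul_eq_mul, MonoidHom.one_apply, OneMemClass.coe_one] at h1 h2
        rw [h1, h2]
      exact IsIrrCharacter.apply_one_eq_one_of_commutators hχ fun a b => htriv _ (by
        rw [commutator_def]
        exact Subgroup.commutator_mem_commutator (Subgroup.mem_top a) (Subgroup.mem_top b))
    obtain ⟨ξ, hξ, hξ1, hi⟩ := D.lin_degree hl
    refine ⟨l, hl, ?_⟩
    have hdeg := degree_eq_mul hχ hθ hc
    rw [he, hm, map_one, Units.val_one, mul_one, ← Nat.cast_mul, Nat.cast_inj] at hdeg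
    have := D.anti ξ χ hξ hχ _ m hξ1 hm hi (fun h => hχ1 (by rw [hm, h, Nat.cast_one]))
      (hdeg ▸ Dvd.intro_left e rfl)
    rw [hm, ← this]
  obtain ⟨l₁, h₁, e₁⟩ := key ψ hψ hψ1
  obtain ⟨l₂, h₂, e₂⟩ := key φ hφ hφ1
  rw [e₁, e₂, D.inertia_eq h₁ h₂]

end Std

theorem Data.degree_eq (D : Data N) {ψ φ : N → ℂ} (hψ : Cfsg.IsIrrCharacter N ψ)
    (hφ : Cfsg.IsIrrCharacter N φ) (hψ1 : ψ 1 ≠ 1) (hφ1 : φ 1 ≠ 1) : ψ 1 = φ 1 := by
  obtain ⟨S⟩ := D.exists_std
  exact S.degree_eq ψ φ hψ hφ hψ1 hφ1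

end CfsgLib.Char.NoDivis
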