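import Cfsg.Agent.Char.NoDivis.Main
import Cfsg.Agent.Char.ThreeDegrees
import Cfsg.Agent.Char.PrimeDegrees
import Cfsg.Agent.Char.Misc
import Cfsg.Agent.PalfyThree.Over

/-!
A solvable group whose nonlinear degrees form an antichain and whose degree graph has two components
has three degrees.
-/

set_option autoImplicit false
set_option linter.style.haveILetI false
set_option linter.unusedSectionVars false

namespace CfsgLib.Char.NoDivis

open scoped commutatorElement

universe u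

/-- The nonlinear degrees form an antichain for divisibility. -/
def Anti (G : Type u) [Group G] : Prop :=
  ∀ ψ ψ' : G → ℂ, Cfsg.IsIrrCharacter G ψ → Cfsg.IsIrrCharacter G ψ' → ∀ a b : ℕ,
    ψ 1 = a → ψ' 1 = b → a ≠ 1 → b ≠ 1 → a ∣ b → a = b

variable {G : Type u} [Group G]

/-- A nonlinear character of a nonabelian quotient. -/
theorem exists_nonlinear [Finite G] (M : Subgroup G) [M.Normal] {x y : G} (hxy : ⁅x, y⁆ ∉ M) :
    ∃ β : G ⧸ M → ℂ, Cfsg.IsIrrCharacter (G ⧸ M) β ∧ β 1 ≠ 1 := by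
  by_contra hno
  push Not at hno
  apply hxy
  rw [← QuotientGroup.eq_one_iff, ← QuotientGroup.mk'_apply, map_commutatorElement,
    commutatorElement_eq_one_iff_mul_comm]
  exact abelian_iff_degree_one.2 hno _ _

/-- With a nonabelian `s`-quotient of coprime kernel, all nonlinear degrees are equal. -/
theorem degree_eq_of_nonabelian [Fintype G] (hanti : Anti G) {s : ℕ} (hs : s.Prime) (M : Subgroup G)
    [M.Normal] (hM : (Nat.card M).Coprime s) {k : ℕ} (hk : M.index = s ^ k) {x y : G} (hxy : ⁅x, y⁆ ∉ M)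
    {ψ φ : G → ℂ} (hψ : Cfsg.IsIrrCharacter G ψ) (hφ : Cfsg.IsIrrCharacter G φ) (hψ1 : ψ 1 ≠ 1)
    (hφ1 : φ 1 ≠ 1) : ψ 1 = φ 1 := by
  classical
  haveI := Fintype.ofFinite M
  haveI := Fintype.ofFinite (G ⧸ M)
  obtain ⟨β, hβ, hβne⟩ := exists_nonlinear M hxy
  obtain ⟨f₁, -, hf₁⟩ := IsIrrCharacter.exists_degree hβ
  obtain ⟨e, -, rfl⟩ : ∃ e ≤ k, f₁ = s ^ e := (Nat.dvd_prime_pow hs).1 (by
    rw [← hk, Subgroup.index_eq_card]; exact IsIrrCharacter.degree_dvd_card hβ hf₁)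
  have he : s ^ e ≠ 1 := fun h => hβne (by rw [hf₁, h, Nat.cast_one])
  have hinfl := IsIrrCharacter.inflate M hβ
  have hdeg : CfsgLib.Char.inflate M β 1 = ((s ^ e : ℕ) : ℂ) := by
    simpa [CfsgLib.Char.inflate] using hf₁
  have hlin : ∀ μ : M → ℂ, Cfsg.IsIrrCharacter M μ → μ 1 = 1 := by
    intro μ hμ
    obtain ⟨d, hd0, hd⟩ := IsIrrCharacter.exists_degree hμ
    by_contra hne
    have hd1 : d ≠ 1 := fun h => hne (by rw [hd, h, Nat.cast_one])
    obtain ⟨E, hE, hres⟩ := PalfyThree.exists_coprime_extension M (hk ▸ hM.pow_right k) hμ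
    have hMI : M ≤ inertia μ := le_inertia (IsIrrCharacter.isClassFunction hμ)
    obtain ⟨I, hI⟩ : ∃ I, inertia μ = I := ⟨_, rfl⟩
    subst hI
    haveI := Fintype.ofFinite (inertia μ)
    haveI := Fintype.ofFinite (M.subgroupOf (inertia μ))
    have hE1 : E 1 = (d : ℂ) := (hres 1 (Subgroup.one_mem _)).trans hd
    have hval : (fun n : M => E (Subgroup.inclusion hMI n)) = μ := funext fun n => hres n (hMI n.2)
    -- the induced character
    have hind : ∀ F : inertia μ → ℂ, Cfsg.IsIrrCharacter _ F →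
        (∃ c : ℂ, c ≠ 0 ∧ ∀ n : M, F (Subgroup.inclusion hMI n) = c * μ n) →
        Cfsg.IsIrrCharacter G (Cfsg.indFun (inertia μ) F) := fun F hF ⟨c, hc, hFc⟩ =>
      (isIrrCharacter_indFun_of_inertia hMI hμ rfl hF (by
        rw [show (fun n : M => F (Subgroup.inclusion hMI n)) = c • μ from funext fun n => hFc n,
          classInner_smul_left, IsIrrCharacter.classInner_self hμ, mul_one]
        exact hc)).1
    have hψE := hind E hE ⟨1, one_ne_zero, fun n => by rw [one_mul]; exact hres n (hMI n.2)⟩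
    have hψEd : Cfsg.indFun (inertia μ) E 1 = (((inertia μ).index * d : ℕ) : ℂ) := by
      rw [indFun_one, hE1, Nat.cast_mul]
    have hne1 : (inertia μ).index * d ≠ 1 := fun h => hd1 (Nat.eq_one_of_mul_eq_one_left h)
    -- the inertia factor is abelian
    have hresE : Cfsg.IsIrrCharacter (M.subgroupOf (inertia μ))
        (fun n : M.subgroupOf (inertia μ) => E n) := by
      rw [show (fun n : M.subgroupOf (inertia μ) => E n) = pullBack μ from
        funext fun n => hres ⟨((n : inertia μ) : G), Subgroup.mem_subgroupOf.1 n.2⟩ (n : inertia μ).2]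
      exact isIrrCharacter_pullBack hMI hμ
    haveI := Fintype.ofFinite (inertia μ ⧸ M.subgroupOf (inertia μ))
    have hbeta : ∀ b : inertia μ ⧸ M.subgroupOf (inertia μ) → ℂ, Cfsg.IsIrrCharacter _ b → b 1 = 1 := by
      intro b hb
      obtain ⟨m, hm0, hm⟩ := IsIrrCharacter.exists_degree hb
      have hbi := IsIrrCharacter.inflate (M.subgroupOf (inertia μ)) hb
      have hprod := ((gallagher_one (N := M.subgroupOf (inertia μ)) hE hresE).mapsTo
        (show CfsgLib.Char.inflate _ b ∈ _ from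
          ⟨hbi, fun n hn => inflate_apply_mem (M.subgroupOf (inertia μ)) b hn⟩)).1
      have hm' : CfsgLib.Char.inflate (M.subgroupOf (inertia μ)) b 1 = (m : ℂ) := by
        simpa [CfsgLib.Char.inflate] using hm
      have hirr := hind _ hprod ⟨(m : ℂ), Nat.cast_ne_zero.2 hm0.ne', fun n => by
        rw [Pi.mul_apply, inflate_apply_mem _ b (Subgroup.mem_subgroupOf.2 n.2), hm']
        exact congrArg _ (hres n (hMI n.2))⟩
      have hirrd : Cfsg.indFun (inertia μ) (CfsgLib.Char.inflate (M.subgroupOf (inertia μ)) b * E) 1 =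
          (((inertia μ).index * d * m : ℕ) : ℂ) := by
        rw [indFun_one, Pi.mul_apply, hm', hE1]
        push_cast
        ring
      have h := hanti _ _ hψE hirr _ _ hψEd hirrd hne1
        (fun h => hne1 (Nat.eq_one_of_mul_eq_one_right h)) (dvd_mul_right _ _)
      have hm1 : m = 1 := by
        refine Nat.eq_of_mul_eq_mul_left (Nat.pos_of_ne_zero fun h0 => ?_) (h.symm.trans (mul_one _).symm)
        rcases Nat.mul_eq_zero.1 h0 with h0 | h0
        · exact Subgroup.index_ne_zero_of_finite h0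
        · omega
      rw [hm, hm1, Nat.cast_one]
    have hIab : ∀ a ∈ inertia μ, ∀ b ∈ inertia μ, ⁅a, b⁆ ∈ M := by
      intro a ha b hb
      have h := abelian_iff_degree_one.2 hbeta ((⟨a, ha⟩ : inertia μ) : inertia μ ⧸ M.subgroupOf (inertia μ))
        ((⟨b, hb⟩ : inertia μ) : inertia μ ⧸ M.subgroupOf (inertia μ))
      rw [← commutatorElement_eq_one_iff_mul_comm] at h
      have h2 : ((⁅(⟨a, ha⟩ : inertia μ), ⟨b, hb⟩⁆ : inertia μ) : inertia μ ⧸ M.subgroupOf (inertia μ)) = 1 :=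
        (map_commutatorElement (QuotientGroup.mk' _) _ _).trans h
      exact Subgroup.mem_subgroupOf.1 ((QuotientGroup.eq_one_iff _).1 h2)
    -- so the nonlinear degree of the quotient divides the degree over `μ`
    have hle : s ^ e ≤ (inertia μ).index := by
      refine (IsIrrCharacter.degree_le_index hβ hf₁ ((inertia μ).map (QuotientGroup.mk' M)) ?_).trans_eq ?_
      · rintro _ ⟨a, ha, rfl⟩ _ ⟨b, hb, rfl⟩
        rw [← commutatorElement_eq_one_iff_mul_comm, ← map_commutatorElement]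
        exact (QuotientGroup.eq_one_iff _).2 (hIab a ha b hb)
      · exact Subgroup.index_map_eq _ (QuotientGroup.mk'_surjective M) (by rw [QuotientGroup.ker_mk']; exact hMI)
    obtain ⟨j, -, hj⟩ := (Nat.dvd_prime_pow hs).1 (hk ▸ Subgroup.index_dvd_of_le hMI)
    have hdvd : s ^ e ∣ (inertia μ).index * d := by
      rw [hj] at hle ⊢
      exact (Nat.pow_dvd_pow s ((Nat.pow_le_pow_iff_right hs.one_lt).1 hle)).mul_right d
    have heq := hanti _ _ hinfl hψE _ _ hdeg hψEd he hne1 hdvd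
    exact hd1 (Nat.eq_one_of_dvd_coprimes (hM.pow_right e) (IsIrrCharacter.degree_dvd_card hμ hd)
      (heq ▸ dvd_mul_left d _))
  have hdvd : ∀ χ : G → ℂ, Cfsg.IsIrrCharacter G χ → ∃ i, χ 1 = ((s ^ i : ℕ) : ℂ) := fun χ hχ => by
    obtain ⟨θ, hθ, hc⟩ := exists_constituent_restrict (N := M) hχ
    obtain ⟨j, hj, hj1⟩ := exists_degree_ratio hχ hθ hc
    obtain ⟨i, -, rfl⟩ := (Nat.dvd_prime_pow hs).1 (hk ▸ hj)
    exact ⟨i, by rw [hj1, hlin θ hθ, mul_one]⟩
  obtain ⟨i, hi⟩ := hdvd ψ hψ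
  obtain ⟨j, hj⟩ := hdvd φ hφ
  have hi1 : s ^ i ≠ 1 := fun h => hψ1 (by rw [hi, h, Nat.cast_one])
  have hj1 : s ^ j ≠ 1 := fun h => hφ1 (by rw [hj, h, Nat.cast_one])
  rw [hi, hj, Nat.cast_inj]
  rcases le_total i j with h | h
  · exact hanti ψ φ hψ hφ _ _ hi hj hi1 hj1 (Nat.pow_dvd_pow s h)
  · exact (hanti φ ψ hφ hψ _ _ hj hi hj1 hi1 (Nat.pow_dvd_pow s h)).symm

/-- A graph with a vertex reachable from all others has no two components. -/
theorem false_of_hub (htwo : Nat.card ((Cfsg.degreeGraph G).induce (Cfsg.degreePrimes G)).ConnectedComponent = 2)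
    (v : Cfsg.degreePrimes G)
    (h : ∀ w, ((Cfsg.degreeGraph G).induce (Cfsg.degreePrimes G)).Reachable w v) : False := by
  have hpre : ((Cfsg.degreeGraph G).induce (Cfsg.degreePrimes G)).Preconnected :=
    fun a b => (h a).trans (h b).symm
  haveI := hpre.subsingleton_connectedComponent
  have := Finite.card_le_one_iff_subsingleton.2
    (inferInstance : Subsingleton ((Cfsg.degreeGraph G).induce (Cfsg.degreePrimes G)).ConnectedComponent)
  omega

theorem reachable_of_dvd {v w : Cfsg.degreePrimes G} {d : ℕ} (hd : d ∈ Cfsg.charDegrees G)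
    (hv : (v : ℕ) ∣ d) (hw : (w : ℕ) ∣ d) :
    ((Cfsg.degreeGraph G).induce (Cfsg.degreePrimes G)).Reachable v w := by
  by_cases h : v = w
  · rw [h]
  · exact SimpleGraph.Adj.reachable (⟨fun e => h (Subtype.ext e), v.2.1, w.2.1, d, hd,
      Nat.Coprime.mul_dvd_of_dvd_of_dvd
        ((Nat.coprime_primes v.2.1 w.2.1).2 fun e => h (Subtype.ext e)) hv hw⟩ :
      (Cfsg.degreeGraph G).Adj v w)

/-- In a Frobenius section the index is prime to the kernel. -/
theorem not_dvd_index_kernel [Finite G] {R N : Subgroup G} [R.Normal] [N.Normal] (hRN : R ≤ N)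
    {s a : ℕ} (hs : s.Prime) (ha0 : a ≠ 0) (hidx : R.relIndex N = s ^ a)
    (hfpf : ∀ y ∉ N, ∀ k ∈ N, ⁅y, k⁆ ∈ R → k ∈ R) : ¬ s ∣ N.index := by
  classical
  intro hd
  haveI := Fact.mk hs
  obtain ⟨P⟩ : Nonempty (Sylow s (G ⧸ R)) := inferInstance
  have hπ := QuotientGroup.mk'_surjective R
  set π := QuotientGroup.mk' R with hπdef
  set Nb := N.map π with hNb
  haveI : Nb.Normal := Subgroup.Normal.map inferInstance _ hπ
  have hidxb : Nb.index = N.index :=
    Subgroup.index_map_eq _ hπ (by rw [hπdef, QuotientGroup.ker_mk']; exact hRN)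
  obtain ⟨y, hyP, hyN⟩ : ∃ y : G, π y ∈ (P : Subgroup (G ⧸ R)) ∧ y ∉ N := by
    by_contra h
    push Not at h
    refine P.not_dvd_index ((hidxb ▸ hd).trans (Subgroup.index_dvd_of_le fun z hz => ?_))
    obtain ⟨y, rfl⟩ := hπ z
    exact ⟨y, h y hz, rfl⟩
  have hcard : Nat.card Nb = s ^ a := by
    rw [hNb, ← Subgroup.relIndex_bot_left, ← hidx]
    have := Subgroup.relIndex_comap (⊥ : Subgroup (G ⧸ R)) π N
    rw [MonoidHom.comap_bot, hπdef, QuotientGroup.ker_mk'] at this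
    rw [hπdef]
    exact this.symm
  letI : MulAction (P : Subgroup (G ⧸ R)) Nb :=
    MulAction.compHom Nb ((MulAut.conjNormal (H := Nb)).comp (P : Subgroup (G ⧸ R)).subtype)
  obtain ⟨z, hz, hz1⟩ := P.isPGroup'.exists_fixed_point_of_prime_dvd_card_of_fixed_point (α := Nb)
    (hcard ▸ dvd_pow_self s ha0) (a := 1) (fun q => map_one (MulAut.conjNormal (q : G ⧸ R)))
  obtain ⟨k, hk, hkz⟩ := Subgroup.mem_map.1 z.2
  have hfix : π y * π k * (π y)⁻¹ = π k := by
    rw [hkz]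
    have h1 := congrArg Subtype.val (hz ⟨π y, hyP⟩)
    exact (MulAut.conjNormal_apply (π y) z).symm.trans h1
  refine hz1 (Subtype.ext ?_)
  rw [OneMemClass.coe_one, ← hkz]
  refine ((QuotientGroup.eq_one_iff k).2 (hfpf y hyN k hk ((QuotientGroup.eq_one_iff _).1 ?_))).symm
  show π ⁅y, k⁆ = 1
  rw [map_commutatorElement, commutatorElement_def, hfix, mul_inv_cancel]

theorem card_degrees [Fintype G] [Group.IsSolvable G]
    (hnd : ∀ a ∈ Cfsg.charDegrees G, ∀ b ∈ Cfsg.charDegrees G, 1 < a → a < b → ¬ a ∣ b)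
    (htwo : Nat.card ((Cfsg.degreeGraph G).induce (Cfsg.degreePrimes G)).ConnectedComponent = 2) :
    Nat.card ↥(Cfsg.charDegrees G) = 3 := by
  classical
  have hmem : ∀ {n : ℕ}, n ∈ Cfsg.charDegrees G ↔ ∃ χ : G → ℂ, Cfsg.IsIrrCharacter G χ ∧ χ 1 = n :=
    PrimeDeg.mem_charDegrees
  have hantiG : ∀ a ∈ Cfsg.charDegrees G, ∀ b ∈ Cfsg.charDegrees G, a ≠ 1 → a ∣ b → a = b := by
    intro a ha b hb ha1 hab
    obtain ⟨χ, hχ, hχb⟩ := hmem.1 hb
    obtain ⟨χ', hχ', hχ'a⟩ := hmem.1 ha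
    obtain ⟨b', hb', hb''⟩ := IsIrrCharacter.exists_degree hχ
    obtain ⟨a', ha', ha''⟩ := IsIrrCharacter.exists_degree hχ'
    rw [hχb, Nat.cast_inj] at hb''
    rw [hχ'a, Nat.cast_inj] at ha''
    rcases (Nat.le_of_dvd (by omega) hab).lt_or_eq with h | h
    · exact absurd hab (hnd a ha b hb (by omega) h)
    · exact h
  have hG : commutator G ≠ ⊥ := by
    intro hbot
    have hab : ∀ a b : G, a * b = b * a := fun a b => by
      rw [← commutatorElement_eq_one_iff_mul_comm, ← Subgroup.mem_bot, ← hbot, commutator_def]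
      exact Subgroup.commutator_mem_commutator (Subgroup.mem_top a) (Subgroup.mem_top b)
    haveI : IsEmpty (Cfsg.degreePrimes G) := ⟨fun v => by
      obtain ⟨hp, d, hd, hpd⟩ := v.2
      obtain ⟨χ, hχ, hχd⟩ := hmem.1 hd
      rw [IsIrrCharacter.apply_one_eq_one hχ hab, eq_comm, Nat.cast_eq_one] at hχd
      rw [hχd] at hpd
      exact hp.ne_one (Nat.dvd_one.1 hpd)⟩
    haveI : IsEmpty ((Cfsg.degreeGraph G).induce (Cfsg.degreePrimes G)).ConnectedComponent :=
      ⟨fun c => SimpleGraph.ConnectedComponent.ind (fun v => isEmptyElim v) c⟩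
    rw [Nat.card_of_isEmpty] at htwo
    omega
  obtain ⟨s, R, N, hs, hR, hN, hRN, hcomm, hab, ⟨a, ha0, hidx⟩, hcase⟩ := NonabQuot.exists_quotient hG
  haveI := hR
  haveI := hN
  haveI := Fintype.ofFinite R
  haveI := Fintype.ofFinite N
  haveI := Fintype.ofFinite (G ⧸ R)
  haveI := Fact.mk hs
  rcases hcase with ⟨⟨b, hb⟩, x, y, hxy⟩ | ⟨htop, hfpf⟩
  · -- the quotient is an `s`-group: `s` divides every nonlinear degree
    exfalso
    obtain ⟨β, hβ, hβne⟩ := exists_nonlinear R hxy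
    obtain ⟨f₁, -, hf₁⟩ := IsIrrCharacter.exists_degree hβ
    obtain ⟨i, -, rfl⟩ : ∃ i ≤ b, f₁ = s ^ i := (Nat.dvd_prime_pow hs).1 (by
      rw [← hb, Subgroup.index_eq_card]; exact IsIrrCharacter.degree_dvd_card hβ hf₁)
    have hi : s ^ i ≠ 1 := fun h => hβne (by rw [hf₁, h, Nat.cast_one])
    have hi0 : i ≠ 0 := fun h => hi (by rw [h, pow_zero])
    have hinfl := IsIrrCharacter.inflate R hβ
    have hdeg : CfsgLib.Char.inflate R β 1 = ((s ^ i : ℕ) : ℂ) := by
      simpa [CfsgLib.Char.inflate] using hf₁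
    have hall : ∀ d ∈ Cfsg.charDegrees G, d ≠ 1 → s ∣ d := by
      intro d hd hd1
      by_contra hsd
      obtain ⟨χ, hχ, hχd⟩ := hmem.1 hd
      obtain ⟨θ, hθ, hc⟩ := exists_constituent_restrict (N := R) hχ
      obtain ⟨k, hk, hk1⟩ := exists_degree_ratio hχ hθ hc
      obtain ⟨m, -, hm⟩ := IsIrrCharacter.exists_degree hθ
      rw [hχd, hm, ← Nat.cast_mul, Nat.cast_inj] at hk1
      obtain ⟨j, -, rfl⟩ := (Nat.dvd_prime_pow hs).1 (hb ▸ hk)
      obtain rfl : j = 0 := by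
        by_contra hj
        exact hsd (hk1 ▸ Dvd.dvd.mul_right (dvd_pow_self s hj) m)
      rw [pow_zero, one_mul] at hk1
      have hres : (fun n : R => χ n) = θ :=
        IsCharacter.eq_of_constituent (IsCharacter.restrict (IsIrrCharacter.isCharacter hχ) R) hθ hc
          (by simp only [OneMemClass.coe_one]; rw [hχd, hm, hk1])
      have hirr := ((gallagher_one (N := R) hχ (hres ▸ hθ)).mapsTo
        (show CfsgLib.Char.inflate R β ∈ _ from ⟨hinfl, fun n hn => inflate_apply_mem R β hn⟩)).1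
      have hprod : s ^ i * d ∈ Cfsg.charDegrees G := hmem.2 ⟨_, hirr, by
        simp only [Pi.mul_apply]
        rw [hdeg, hχd, Nat.cast_mul]⟩
      have h := hantiG d hd _ hprod hd1 (dvd_mul_left d _)
      exact hsd (h ▸ (dvd_pow_self s hi0).mul_right d)
    have hsmem : s ^ i ∈ Cfsg.charDegrees G := hmem.2 ⟨_, hinfl, hdeg⟩
    refine false_of_hub htwo ⟨s, hs, s ^ i, hsmem, dvd_pow_self s hi0⟩ fun w => ?_
    obtain ⟨hp, d, hd, hpd⟩ := w.2
    exact reachable_of_dvd hd hpd (hall d hd fun h => hp.ne_one (Nat.dvd_one.1 (h ▸ hpd)))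
  -- the Frobenius case
  have hsf : ¬ s ∣ N.index := not_dvd_index_kernel hRN hs ha0 hidx hfpf
  obtain ⟨f, hf⟩ : ∃ f, N.index = f := ⟨_, rfl⟩
  have hf1 : 1 < f := hf ▸ Subgroup.one_lt_index_of_ne_top htop
  rw [hf] at hsf
  have hmul : ∀ {ψ : N → ℂ}, Cfsg.IsIrrCharacter N ψ → ∀ {m : ℕ}, ψ 1 = m → ¬ s ∣ m →
      f * m ∈ Cfsg.charDegrees G := fun {ψ} hψ {m} hm hsm => by
    obtain ⟨χ, hχ, hχd⟩ := NonabQuot.exists_degree_mul hRN hab hs ha0 hidx hfpf hcomm hψ hm hsm
    exact hmem.2 ⟨χ, hχ, hf ▸ hχd⟩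
  have hfmem : f ∈ Cfsg.charDegrees G := by
    have := hmul (isIrrCharacter_one (G := N)) (m := 1) Nat.cast_one.symm hs.not_dvd_one
    rwa [mul_one] at this
  have hsm : ∀ θ : N → ℂ, Cfsg.IsIrrCharacter N θ → ∀ m : ℕ, θ 1 = m → m ≠ 1 → s ∣ m := by
    intro θ hθ m hm hm1
    by_contra h
    have h1 := hantiG f hfmem _ (hmul hθ hm h) (by omega) (dvd_mul_right f m)
    exact hm1 ((Nat.mul_eq_left (by omega)).1 h1.symm)
  have hcases : ∀ D ∈ Cfsg.charDegrees G, D ≠ 1 → D = f ∨ s ∣ D := by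
    intro D hD hD1
    obtain ⟨χ, hχ, hχD⟩ := hmem.1 hD
    obtain ⟨θ, hθ, hc⟩ := exists_constituent_restrict (N := N) hχ
    obtain ⟨k, hk, hk1⟩ := exists_degree_ratio hχ hθ hc
    obtain ⟨m, -, hm⟩ := IsIrrCharacter.exists_degree hθ
    rw [hχD, hm, ← Nat.cast_mul, Nat.cast_inj] at hk1
    by_cases hm1 : m = 1
    · rw [hm1, mul_one] at hk1
      exact Or.inl (hantiG D hD f hfmem hD1 (hk1 ▸ hf ▸ hk))
    · exact Or.inr (hk1 ▸ (hsm θ hθ m hm hm1).mul_left k)
  have hcop : ∀ D ∈ Cfsg.charDegrees G, s ∣ D → D.Coprime f := by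
    intro D hD hsD
    by_contra hnc
    obtain ⟨p, hp, hpD, hpf⟩ := Nat.Prime.not_coprime_iff_dvd.1 hnc
    let vs : Cfsg.degreePrimes G := ⟨s, hs, D, hD, hsD⟩
    let vp : Cfsg.degreePrimes G := ⟨p, hp, f, hfmem, hpf⟩
    refine false_of_hub htwo vp fun w => ?_
    obtain ⟨hq, d, hd, hqd⟩ := w.2
    rcases hcases d hd fun h => hq.ne_one (Nat.dvd_one.1 (h ▸ hqd)) with rfl | hsd
    · exact reachable_of_dvd hd hqd hpf
    · exact (reachable_of_dvd (w := vs) hd hqd hsd).trans (reachable_of_dvd hD hsD hpD)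
  obtain ⟨d₀, hd₀, hsd₀⟩ : ∃ d ∈ Cfsg.charDegrees G, s ∣ d := by
    by_contra h
    push Not at h
    obtain ⟨p, hp, hpf⟩ := Nat.exists_prime_and_dvd hf1.ne'
    refine false_of_hub htwo ⟨p, hp, f, hfmem, hpf⟩ fun w => ?_
    obtain ⟨hq, d, hd, hqd⟩ := w.2
    rcases hcases d hd fun e => hq.ne_one (Nat.dvd_one.1 (e ▸ hqd)) with rfl | hsd
    · exact reachable_of_dvd hd hqd hpf
    · exact absurd hsd (h d hd)
  -- nonlinear characters of `N` are invariant and extend
  have hN' : ∀ θ : N → ℂ, Cfsg.IsIrrCharacter N θ → ∀ m : ℕ, θ 1 = m → m ≠ 1 →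
      m ∈ Cfsg.charDegrees G ∧ m.Coprime f ∧
        ∀ (g : G) (n : N), θ (MulAut.conjNormal g n) = θ n := by
    intro θ hθ m hm hm1
    obtain ⟨χ, hχ, hc⟩ := ThreeDeg.exists_over' N hθ
    obtain ⟨k, hk, hk1⟩ := exists_degree_ratio hχ hθ hc
    rw [hm, ← Nat.cast_mul] at hk1
    have hD := hmem.2 ⟨χ, hχ, hk1⟩
    have hc1 := hcop _ hD ((hsm θ hθ m hm hm1).mul_left k)
    have hk' : k = 1 := Nat.eq_one_of_dvd_coprimes hc1 (dvd_mul_right k m) (hf ▸ hk)
    rw [hk', one_mul] at hD hc1 hk1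
    have hres : (fun n : N => χ n) = θ :=
      IsCharacter.eq_of_constituent (IsCharacter.restrict (IsIrrCharacter.isCharacter hχ) N) hθ hc
        (by simp only [OneMemClass.coe_one]; rw [hk1, hm])
    refine ⟨hD, hc1, fun g n => ?_⟩
    rw [← hres]
    show χ ((MulAut.conjNormal g n : N) : G) = χ n
    rw [MulAut.conjNormal_apply]
    exact IsIrrCharacter.isClassFunction hχ n g
  have hantiN : Anti N := fun ψ ψ' hψ hψ' p q hp hq hp1 hq1 hpq =>
    hantiG p (hN' ψ hψ p hp hp1).1 q (hN' ψ' hψ' q hq hq1).1 hp1 hpq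
  have hequal : ∀ ψ φ : N → ℂ, Cfsg.IsIrrCharacter N ψ → Cfsg.IsIrrCharacter N φ → ψ 1 ≠ 1 → φ 1 ≠ 1 →
      ψ 1 = φ 1 := by
    intro ψ φ hψ hφ hψ1 hφ1
    obtain ⟨M, hMn, hMc, k, hk⟩ := ThompsonDegree.exists_complement (p := s) (G := N) hsm
    haveI := hMn
    by_cases hMab : ∀ u v : N, ⁅u, v⁆ ∈ M
    swap
    · push Not at hMab
      obtain ⟨u, v, huv⟩ := hMab
      exact degree_eq_of_nonabelian hantiN hs M hMc hk huv hψ hφ hψ1 hφ1
    have hN'M : commutator N ≤ M := by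
      rw [commutator_def, Subgroup.commutator_le]; exact fun u _ v _ => hMab u v
    have hN'R : ∀ u ∈ commutator N, (u : G) ∈ R := by
      have : commutator N ≤ R.subgroupOf N := by
        rw [commutator_def, Subgroup.commutator_le]
        exact fun u _ v _ => Subgroup.mem_subgroupOf.2 (hab _ u.2 _ v.2)
      exact fun u hu => Subgroup.mem_subgroupOf.1 (this hu)
    obtain ⟨r, hr, hrf⟩ := Nat.exists_prime_and_dvd hf1.ne'
    haveI := Fact.mk hr
    obtain ⟨gb, hgb⟩ := exists_prime_orderOf_dvd_card' (G := G ⧸ N) r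
      (by rw [← Subgroup.index_eq_card, hf]; exact hrf)
    obtain ⟨g, rfl⟩ := QuotientGroup.mk'_surjective N gb
    have hgN : g ∉ N := fun h => hr.ne_one (by
      rw [← hgb, show QuotientGroup.mk' N g = 1 from (QuotientGroup.eq_one_iff g).2 h, orderOf_one])
    have hgr : g ^ r ∈ N := (QuotientGroup.eq_one_iff (g ^ r)).1 (by
      rw [QuotientGroup.mk_pow, ← hgb]
      exact pow_orderOf_eq_one _)
    obtain ⟨y, hyN, hyR⟩ : ∃ y ∈ N, y ∉ R := by
      by_contra h
      push Not at h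
      rw [Subgroup.relIndex_eq_one.2 h] at hidx
      exact (Nat.one_lt_pow ha0 hs.one_lt).ne hidx
    obtain ⟨x, hx⟩ : ∃ x : N, x = ⟨y, hyN⟩ ^ Nat.card M := ⟨_, rfl⟩
    have hxord : orderOf x ∣ s ^ k := orderOf_dvd_of_pow_eq_one (by
      rw [hx, ← pow_mul, ← hk, Subgroup.card_mul_index]
      exact pow_card_eq_one')
    have hxR : (x : G) ∉ R := by
      intro h
      apply hyR
      rw [← QuotientGroup.eq_one_iff, ← orderOf_eq_one_iff]
      refine Nat.eq_one_of_dvd_coprimes (hMc.pow_right a) (orderOf_dvd_of_pow_eq_one ?_)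
        (orderOf_dvd_of_pow_eq_one ?_)
      · rw [← QuotientGroup.mk_pow, QuotientGroup.eq_one_iff]
        rw [hx, SubgroupClass.coe_pow] at h
        exact h
      · rw [← QuotientGroup.mk_pow, QuotientGroup.eq_one_iff, ← hidx]
        exact Subgroup.mem_subgroupOf.1 (Subgroup.pow_index_mem (R.subgroupOf N) ⟨y, hyN⟩)
    let D : Data N :=
      { α := MulAut.conjNormal g
        r := r
        hr := hr
        n₀ := ⟨g ^ r, hgr⟩
        hn₀ := by
          rw [← map_pow]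
          refine MulEquiv.ext fun n => Subtype.ext ?_
          rw [MulAut.conjNormal_apply, MulAut.conj_apply]
          simp
        anti := hantiN
        fix := fun θ hθ hθ1 n => by
          obtain ⟨m, -, hm⟩ := IsIrrCharacter.exists_degree hθ
          exact (hN' θ hθ m hm fun h => hθ1 (by rw [hm, h, Nat.cast_one])).2.2 g n
        cop := fun θ hθ m hm hm1 hrm =>
          hr.ne_one (Nat.eq_one_of_dvd_coprimes (hN' θ hθ m hm hm1).2.1 hrm hrf)
        solv := inferInstance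
        x := x
        hx := fun h => by
          have h1 := R.inv_mem (hN'R _ h)
          rw [Subgroup.coe_mul, Subgroup.coe_inv, MulAut.conjNormal_apply] at h1
          have h2 : ⁅g, (x : G)⁻¹⁆ ∈ R := by
            rw [commutatorElement_def]
            simpa [mul_assoc] using h1
          exact hxR (by simpa using R.inv_mem (hfpf g hgN _ (N.inv_mem x.2) h2))
        hxcop := ((hMc.symm.pow_left k).coprime_dvd_left hxord).coprime_dvd_right
          (Subgroup.card_dvd_of_le hN'M)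
        hxr := fun h => hsf ((Nat.prime_dvd_prime_iff_eq hr hs).1 (hr.dvd_of_dvd_pow (h.trans hxord)) ▸ hrf) }
    exact D.degree_eq hψ hφ hψ1 hφ1
  have hkey : ∀ D ∈ Cfsg.charDegrees G, D ≠ 1 → D ≠ f →
      ∃ θ : N → ℂ, Cfsg.IsIrrCharacter N θ ∧ θ 1 = D := by
    intro D hD hD1 hDf
    obtain ⟨χ, hχ, hχD⟩ := hmem.1 hD
    obtain ⟨θ, hθ, hc⟩ := exists_constituent_restrict (N := N) hχ
    obtain ⟨k, hk, hk1⟩ := exists_degree_ratio hχ hθ hc
    obtain ⟨m, -, hm⟩ := IsIrrCharacter.exists_degree hθ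
    rw [hχD, hm, ← Nat.cast_mul, Nat.cast_inj] at hk1
    have hc1 := hcop D hD ((hcases D hD hD1).resolve_left hDf)
    have hk' : k = 1 := Nat.eq_one_of_dvd_coprimes hc1 (hk1 ▸ dvd_mul_right k m) (hf ▸ hk)
    rw [hk', one_mul] at hk1
    exact ⟨θ, hθ, by rw [hm, hk1]⟩
  have hd₀1 : d₀ ≠ 1 := fun h => hs.ne_one (Nat.dvd_one.1 (h ▸ hsd₀))
  have hd₀f : d₀ ≠ f := fun h => hsf (h ▸ hsd₀)
  have hone : 1 ∈ Cfsg.charDegrees G := hmem.2 ⟨_, isIrrCharacter_one, Nat.cast_one.symm⟩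
  have hset : Cfsg.charDegrees G = {1, f, d₀} := by
    ext D
    simp only [Set.mem_insert_iff, Set.mem_singleton_iff]
    refine ⟨fun hD => ?_, ?_⟩
    · by_cases hD1 : D = 1
      · exact Or.inl hD1
      by_cases hDf : D = f
      · exact Or.inr (Or.inl hDf)
      refine Or.inr (Or.inr ?_)
      obtain ⟨θ, hθ, hθD⟩ := hkey D hD hD1 hDf
      obtain ⟨θ₀, hθ₀, hθd₀⟩ := hkey d₀ hd₀ hd₀1 hd₀f
      have := hequal θ θ₀ hθ hθ₀ (by rw [hθD]; exact_mod_cast hD1) (by rw [hθd₀]; exact_mod_cast hd₀1)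
      rw [hθD, hθd₀, Nat.cast_inj] at this
      exact this
    · rintro (rfl | rfl | rfl)
      exacts [hone, hfmem, hd₀]
  rw [Nat.card_coe_set_eq, hset]
  exact Set.ncard_eq_three.2 ⟨1, f, d₀, hf1.ne, fun h => hd₀1 h.symm, fun h => hd₀f h.symm, rfl⟩

end CfsgLib.Char.NoDivis
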